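import Mathlib

set_option autoImplicit false

open Matrix

namespace Cfsg.Agent.Helper29

/-- [P4] of helper15's S2583 job. -/
theorem count_even_of_rank_even {t : ℕ} (d : Fin t → ℕ)
    (h : ∀ k, Odd k → Even (∑ i, (d i - k))) (j : ℕ) (hj : Even j) (hj0 : 0 < j) :
    Even (Finset.univ.filter (fun i : Fin t => d i = j)).card := by
  have h1 : Odd (j - 1) := by
    obtain ⟨m, hm⟩ := hj
    exact ⟨m - 1, by omega⟩
  have h2 : Odd (j + 1) := hj.add_one
  have key : (Finset.univ.filter (fun i : Fin t => d i = j)).card + 2 * ∑ i, (d i - j)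
      = ∑ i, (d i - (j - 1)) + ∑ i, (d i - (j + 1)) := by
    rw [Finset.card_filter, Finset.mul_sum, ← Finset.sum_add_distrib, ← Finset.sum_add_distrib]
    refine Finset.sum_congr rfl fun i _ => ?_
    split_ifs with hi <;> omega
  have h3 : Even ((Finset.univ.filter (fun i : Fin t => d i = j)).card
      + 2 * ∑ i, (d i - j)) := by
    rw [key]; exact (h _ h1).add (h _ h2)
  have h4 : Even (2 * ∑ i, (d i - j)) := even_two_mul _
  exact (Nat.even_add.mp h3).mpr h4

end Cfsg.Agent.Helper29
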