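import Mathlib
import Cfsg.Agent.Lead.NilBound
import Cfsg.Agent.Lead.NilNum

set_option autoImplicit false

namespace Cfsg.Agent.Helper29

theorem na_V_add (a b : ℕ) :
    a.factorial.factorization 2 + b.factorial.factorization 2 ≤ (a + b).factorial.factorization 2 := by
  have h1 : a.factorial * b.factorial ∣ (a + b).factorial :=
    Nat.factorial_mul_factorial_dvd_factorial_add a b
  have h2 := (Nat.factorization_le_iff_dvd
    (Nat.mul_ne_zero (Nat.factorial_ne_zero a) (Nat.factorial_ne_zero b))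
    (Nat.factorial_ne_zero (a + b))).mpr h1 2
  rw [Nat.factorization_mul (Nat.factorial_ne_zero a) (Nat.factorial_ne_zero b)] at h2
  simpa using h2

theorem na_V_ge {k q : ℕ} (h : 2 ^ k ∣ q.factorial) : k ≤ q.factorial.factorization 2 :=
  (Nat.prime_two.pow_dvd_iff_le_factorization (Nat.factorial_ne_zero q)).mp h

theorem na_V_odd (a : ℕ) :
    (2 * a + 1).factorial.factorization 2 = (2 * a).factorial.factorization 2 := by
  rw [Nat.factorial_succ, Nat.factorization_mul (show 2 * a + 1 ≠ 0 by omega)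
    (Nat.factorial_ne_zero (2 * a)), Finsupp.add_apply,
    Nat.factorization_eq_zero_of_not_dvd (show ¬ 2 ∣ 2 * a + 1 by omega), zero_add]

theorem na_L1 (a b : ℕ) :
    (2 * a + 1).factorial.factorization 2 + (2 * b + 1).factorial.factorization 2 + 1
      ≤ (2 * a + 1 + (2 * b + 1)).factorial.factorization 2 := by
  rw [na_V_odd a, na_V_odd b, show 2 * a + 1 + (2 * b + 1) = (2 * a + 2 * b) + 2 by ring]
  have h1 := na_V_add (2 * a) (2 * b)
  have h2 := na_V_add (2 * a + 2 * b) 2
  have h3 : 1 ≤ (2:ℕ).factorial.factorization 2 := na_V_ge (by decide)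
  omega

theorem na_L3 (a : ℕ) :
    (2 * a + 1).factorial.factorization 2 + 3 ≤ (2 * a + 1 + 3).factorial.factorization 2 := by
  rw [na_V_odd a, show 2 * a + 1 + 3 = 2 * a + 4 by ring]
  have h2 := na_V_add (2 * a) 4
  have h3 : 3 ≤ (4:ℕ).factorial.factorization 2 := na_V_ge (by decide)
  omega

theorem na_key (c : ℕ → ℕ)
    (hc : ∀ m, 0 < m → m ≠ 3 → c m ≤ 2 ^ (m.factorial.factorization 2)) (hc3 : c 3 = 3)
    (a b : ℕ) (hx3 : 2 * a + 1 ≠ 3) :
    2 * c (2 * a + 1) * c (2 * b + 1)
      ≤ 2 ^ ((2 * a + 1 + (2 * b + 1)).factorial.factorization 2) := by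
  have hx := hc (2 * a + 1) (by omega) hx3
  by_cases hy3 : 2 * b + 1 = 3
  · rw [hy3, hc3]
    have h8 : (2:ℕ) ^ 3 = 8 := by norm_num
    calc 2 * c (2 * a + 1) * 3
        ≤ 2 * 2 ^ ((2 * a + 1).factorial.factorization 2) * 3 :=
          Nat.mul_le_mul_right 3 (Nat.mul_le_mul_left 2 hx)
      _ ≤ 2 ^ ((2 * a + 1).factorial.factorization 2 + 3) := by
          rw [pow_add, h8]; omega
      _ ≤ _ := Nat.pow_le_pow_right (by norm_num) (na_L3 a)
  · have hy := hc (2 * b + 1) (by omega) hy3
    calc 2 * c (2 * a + 1) * c (2 * b + 1)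
        ≤ 2 * 2 ^ ((2 * a + 1).factorial.factorization 2)
            * 2 ^ ((2 * b + 1).factorial.factorization 2) :=
          Nat.mul_le_mul (Nat.mul_le_mul_left 2 hx) hy
      _ = 2 ^ ((2 * a + 1).factorial.factorization 2
            + (2 * b + 1).factorial.factorization 2 + 1) := by
          rw [pow_add, pow_add, pow_one]; ring
      _ ≤ _ := Nat.pow_le_pow_right (by norm_num) (na_L1 a b)

/-- [B2] of the lead's S2255 job. -/
theorem nil_prod_odd_le (c : ℕ → ℕ)
    (hc : ∀ m, 0 < m → m ≠ 3 → c m ≤ 2 ^ (m.factorial.factorization 2))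
    (hc3 : c 3 = 3)
    (hc2 : ∀ m, Odd m → m ≠ 1 → m ≠ 3 → m ≠ 5 → m ≠ 9 →
      2 * c m ≤ 2 ^ (m.factorial.factorization 2))
    (l : Multiset ℕ) (hodd : ∀ m ∈ l, Odd m) (h : l.sum % 4 ≠ 3) (h5 : l.sum ≠ 5)
    (h6 : l.sum ≠ 6) (h9 : l.sum ≠ 9) (h2 : 2 ≤ l.sum) :
    2 * (l.map c).prod ≤ 2 ^ (l.sum.factorial.factorization 2) := by
  by_cases hall : ∀ m ∈ l, m = 3
  · obtain ⟨b, rfl⟩ : ∃ b, l = Multiset.replicate b 3 :=
      ⟨_, Multiset.eq_replicate.mpr ⟨rfl, hall⟩⟩
    have hs : (Multiset.replicate b 3).sum = b * 3 := by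
      rw [Multiset.sum_replicate, smul_eq_mul]
    rw [hs] at h h5 h6 h9 h2 ⊢
    obtain ⟨k, rfl⟩ : ∃ k, b = k + 3 := ⟨b - 3, by omega⟩
    rw [Multiset.map_replicate, Multiset.prod_replicate, hc3]
    have hc' : ∀ m, 0 < m → m ≠ 3 →
        Function.update c 9 54 m ≤ 2 ^ (m.factorial.factorization 2) := by
      intro m hm hm3
      by_cases hm9 : m = 9
      · rw [hm9, Function.update_self]
        calc 54 ≤ 2 ^ 7 := by norm_num
          _ ≤ _ := Nat.pow_le_pow_right (by norm_num) (na_V_ge (by decide))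
      · rw [Function.update_of_ne hm9]; exact hc m hm hm3
    have hc'3 : Function.update c 9 54 3 = 3 := by
      rw [Function.update_of_ne (show (3:ℕ) ≠ 9 by norm_num), hc3]
    have h1 := Lead.nil_prod_le_of (Function.update c 9 54) hc' hc'3
      (9 ::ₘ Multiset.replicate k 3)
      (by
        intro m hm
        rcases Multiset.mem_cons.mp hm with rfl | hm
        · norm_num
        · rw [Multiset.eq_of_mem_replicate hm]; norm_num)
      (by
        rw [Multiset.sum_cons, Multiset.sum_replicate, smul_eq_mul]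
        omega)
    rw [Multiset.map_cons, Multiset.prod_cons, Multiset.map_replicate, Multiset.prod_replicate,
      Function.update_self, hc'3, Multiset.sum_cons, Multiset.sum_replicate, smul_eq_mul] at h1
    rw [show (k + 3) * 3 = 9 + k * 3 by ring]
    calc 2 * 3 ^ (k + 3) = 54 * 3 ^ k := by ring
      _ ≤ _ := h1
  · push_neg at hall
    obtain ⟨x, hxl, hx3⟩ := hall
    obtain ⟨l₁, rfl⟩ := Multiset.exists_cons_of_mem hxl
    have hxodd := hodd x (Multiset.mem_cons_self x l₁)
    by_cases hl1 : l₁ = 0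
    · subst hl1
      simp only [Multiset.cons_zero, Multiset.sum_singleton, Multiset.map_singleton,
        Multiset.prod_singleton] at h h5 h6 h9 h2 ⊢
      exact hc2 x hxodd (by omega) hx3 h5 h9
    · obtain ⟨y, hy⟩ := Multiset.exists_mem_of_ne_zero hl1
      obtain ⟨r, rfl⟩ := Multiset.exists_cons_of_mem hy
      have hyodd := hodd y (Multiset.mem_cons_of_mem (Multiset.mem_cons_self y r))
      obtain ⟨a, rfl⟩ := hxodd
      obtain ⟨b, rfl⟩ := hyodd
      have key := na_key c hc hc3 a b hx3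
      have hne : ∀ m ∈ r, m ≠ 2 * a + 1 + (2 * b + 1) := by
        intro m hm
        obtain ⟨d, rfl⟩ := hodd m (Multiset.mem_cons_of_mem (Multiset.mem_cons_of_mem hm))
        omega
      have hc' : ∀ m, 0 < m → m ≠ 3 →
          Function.update c (2 * a + 1 + (2 * b + 1)) (2 * c (2 * a + 1) * c (2 * b + 1)) m
            ≤ 2 ^ (m.factorial.factorization 2) := by
        intro m hm hm3
        by_cases hmx : m = 2 * a + 1 + (2 * b + 1)
        · rw [hmx, Function.update_self]; exact key
        · rw [Function.update_of_ne hmx]; exact hc m hm hm3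
      have hc'3 : Function.update c (2 * a + 1 + (2 * b + 1))
          (2 * c (2 * a + 1) * c (2 * b + 1)) 3 = 3 := by
        rw [Function.update_of_ne (show (3:ℕ) ≠ 2 * a + 1 + (2 * b + 1) by omega), hc3]
      have hs : ((2 * a + 1 + (2 * b + 1)) ::ₘ r).sum
          = ((2 * a + 1) ::ₘ (2 * b + 1) ::ₘ r).sum := by
        rw [Multiset.sum_cons, Multiset.sum_cons, Multiset.sum_cons, add_assoc]
      have hr : Multiset.map (Function.update c (2 * a + 1 + (2 * b + 1))
          (2 * c (2 * a + 1) * c (2 * b + 1))) r = Multiset.map c r :=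
        Multiset.map_congr rfl (fun m hm => Function.update_of_ne (hne m hm) _ _)
      have h1 := Lead.nil_prod_le_of _ hc' hc'3 ((2 * a + 1 + (2 * b + 1)) ::ₘ r)
        (by
          intro m hm
          rcases Multiset.mem_cons.mp hm with rfl | hm
          · omega
          · exact (hodd m (Multiset.mem_cons_of_mem (Multiset.mem_cons_of_mem hm))).pos)
        (by rw [hs]; exact h)
      rw [hs, Multiset.map_cons, Multiset.prod_cons, Function.update_self, hr] at h1
      rw [Multiset.map_cons, Multiset.map_cons, Multiset.prod_cons, Multiset.prod_cons]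
      calc 2 * (c (2 * a + 1) * (c (2 * b + 1) * (r.map c).prod))
          = 2 * c (2 * a + 1) * c (2 * b + 1) * (r.map c).prod := by ring
        _ ≤ _ := h1

end Cfsg.Agent.Helper29
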