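import Mathlib
import Cfsg.Agent.Lead.NilBound
import Cfsg.Agent.Lead.NilNum
import Cfsg.Agent.Lead.NilN1
import Cfsg.Agent.Helper29.NilAlt

set_option autoImplicit false

namespace Cfsg.Agent.Helper29

/-- [A2] of helper14's S2255 job: a corollary of `nil_prod_odd_le` with `c = Lead.nilBound`. -/
theorem altnil_num
    (hstrict : ∀ m : ℕ, Odd m → m ≠ 1 → m ≠ 3 → m ≠ 5 → m ≠ 9 →
      2 * Lead.nilBound m ≤ 2 ^ (m.factorial.factorization 2))
    (n : ℕ) (hn : n % 4 ≠ 3) (h2 : 2 ≤ n) (h5 : n ≠ 5) (h6 : n ≠ 6) (h9 : n ≠ 9)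
    (l : Multiset ℕ) (hodd : ∀ m ∈ l, Odd m) (hsum : l.sum = n) :
    2 * (l.map Lead.nilBound).prod ≤ 2 ^ (n.factorial.factorization 2) := by
  subst hsum
  exact nil_prod_odd_le Lead.nilBound Lead.nilBound_le Lead.nilBound_three hstrict l hodd hn h5 h6
    h9 h2

end Cfsg.Agent.Helper29
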