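import Mathlib

/-!
Polynomial sequences in a group with a filtration (Lazard–Leibman): sequences `f : ℕ → G` all of
whose iterated discrete derivatives lie in the successive terms of a filtration form a group.
Consequence: if the filtration ends at step `p` and its second term has exponent `p`, then
`(a * b) ^ p = a ^ p * b ^ p`.
-/

namespace Cfsg.Agent.Helper29

open scoped commutatorElement

variable {G : Type*} [Group G]

/-- a filtration: antitone, and commutators add the indices -/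
structure PFilt (Γ : ℕ → Subgroup G) : Prop where
  anti : ∀ a b, a ≤ b → Γ b ≤ Γ a
  comm : ∀ a b, ⁅Γ a, Γ b⁆ ≤ Γ (a + b)

/-- the discrete derivative -/
def psD (f : ℕ → G) : ℕ → G := fun n => (f n)⁻¹ * f (n + 1)

/-- polynomial of order `K` with shift `i` -/
def PPoly (Γ : ℕ → Subgroup G) : ℕ → ℕ → (ℕ → G) → Prop
  | 0, i, f => ∀ n, f n ∈ Γ i
  | K + 1, i, f => (∀ n, f n ∈ Γ i) ∧ PPoly Γ K (i + 1) (psD f)

lemma PPoly.val {Γ : ℕ → Subgroup G} {K i : ℕ} {f : ℕ → G} (h : PPoly Γ K i f) :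
    ∀ n, f n ∈ Γ i := by
  cases K with
  | zero => exact h
  | succ K => exact h.1

lemma PPoly.mono_shift {Γ : ℕ → Subgroup G} (hΓ : PFilt Γ) {K : ℕ} :
    ∀ {i i' : ℕ} {f : ℕ → G}, i' ≤ i → PPoly Γ K i f → PPoly Γ K i' f := by
  induction K with
  | zero =>
    intro i i' f hi h n
    exact hΓ.anti _ _ hi (h n)
  | succ K ih =>
    intro i i' f hi h
    exact ⟨fun n => hΓ.anti _ _ hi (h.1 n), ih (Nat.succ_le_succ hi) h.2⟩

lemma PPoly.mono_order {Γ : ℕ → Subgroup G} {K : ℕ} :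
    ∀ {i : ℕ} {f : ℕ → G}, PPoly Γ (K + 1) i f → PPoly Γ K i f := by
  induction K with
  | zero =>
    intro i f h
    exact h.1
  | succ K ih =>
    intro i f h
    exact ⟨h.1, ih h.2⟩

lemma psD_mul (f g : ℕ → G) :
    psD (f * g) = (fun n => ⁅(g⁻¹) n, psD f n⁆) * psD f * psD g := by
  funext n
  simp only [psD, Pi.mul_apply, Pi.inv_apply, commutatorElement_def]
  group

lemma psD_inv (f : ℕ → G) :
    psD (f⁻¹) = (fun n => ⁅f n, ((psD f)⁻¹) n⁆) * (psD f)⁻¹ := by
  funext n
  simp only [psD, Pi.mul_apply, Pi.inv_apply, commutatorElement_def]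
  group

lemma psD_comm (f g : ℕ → G) :
    psD (fun n => ⁅f n, g n⁆) =
      (fun n => ((fun n => ⁅f n, g n⁆)⁻¹) n *
        ((fun n => f n * ⁅psD f n, g n⁆ * (f n)⁻¹) n *
          (fun n => (f * g) n * ⁅psD f n, psD g n⁆ * ((f * g) n)⁻¹) n) *
        (((fun n => ⁅f n, g n⁆)⁻¹) n)⁻¹) *
      (fun n => g n * ⁅f n, psD g n⁆ * (g n)⁻¹) := by
  funext n
  simp only [psD, Pi.mul_apply, Pi.inv_apply, commutatorElement_def]
  group

theorem ppoly_closure {Γ : ℕ → Subgroup G} (hΓ : PFilt Γ) : ∀ K : ℕ, ∀ (i j : ℕ) (f g : ℕ → G),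
    PPoly Γ K i f → PPoly Γ K j g →
    PPoly Γ K (min i j) (f * g) ∧ PPoly Γ K i f⁻¹ ∧ PPoly Γ K (i + j) (fun n => ⁅f n, g n⁆) := by
  intro K
  induction K with
  | zero =>
    intro i j f g hf hg
    refine ⟨fun n => ?_, fun n => ?_, fun n => ?_⟩
    · exact mul_mem (hΓ.anti _ _ (min_le_left i j) (hf n)) (hΓ.anti _ _ (min_le_right i j) (hg n))
    · exact inv_mem (hf n)
    · exact hΓ.comm i j (Subgroup.commutator_mem_commutator (hf n) (hg n))
  | succ K ih =>
    intro i j f g hf hg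
    have hfK : PPoly Γ K i f := hf.mono_order
    have hgK : PPoly Γ K j g := hg.mono_order
    have mulK : ∀ {a b : ℕ} {x y : ℕ → G}, PPoly Γ K a x → PPoly Γ K b y → ∀ c : ℕ, c ≤ a → c ≤ b →
        PPoly Γ K c (x * y) := by
      intro a b x y hx hy c hca hcb
      exact PPoly.mono_shift hΓ (le_min hca hcb) (ih a b x y hx hy).1
    have invK : ∀ {a : ℕ} {x : ℕ → G}, PPoly Γ K a x → PPoly Γ K a x⁻¹ := by
      intro a x hx
      exact (ih a a x x hx hx).2.1
    have commK : ∀ {a b : ℕ} {x y : ℕ → G}, PPoly Γ K a x → PPoly Γ K b y →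
        PPoly Γ K (a + b) (fun n => ⁅x n, y n⁆) := by
      intro a b x y hx hy
      exact (ih a b x y hx hy).2.2
    have conjK : ∀ {a b : ℕ} {x y : ℕ → G}, PPoly Γ K a x → PPoly Γ K b y →
        PPoly Γ K a (fun n => y n * x n * (y n)⁻¹) := by
      intro a b x y hx hy
      have h1 := mulK (commK hy hx) hx a (by omega) le_rfl
      have h2 : (fun n => y n * x n * (y n)⁻¹) = (fun n => ⁅y n, x n⁆) * x := by
        funext n
        simp [commutatorElement_def]
      rw [h2]
      exact h1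
    refine ⟨⟨fun n => ?_, ?_⟩, ⟨fun n => ?_, ?_⟩, ⟨fun n => ?_, ?_⟩⟩
    · exact mul_mem (hΓ.anti _ _ (min_le_left i j) (hf.1 n))
        (hΓ.anti _ _ (min_le_right i j) (hg.1 n))
    · rw [psD_mul]
      have t1 := commK (invK hgK) hf.2
      exact mulK (mulK t1 hf.2 (min i j + 1) (by omega) (by omega)) hg.2 (min i j + 1) le_rfl
        (by omega)
    · exact inv_mem (hf.1 n)
    · rw [psD_inv]
      have t1 := commK hfK (invK hf.2)
      exact mulK t1 (invK hf.2) (i + 1) (by omega) le_rfl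
    · exact hΓ.comm i j (Subgroup.commutator_mem_commutator (hf.1 n) (hg.1 n))
    · rw [psD_comm]
      have c1 := conjK (commK hf.2 hgK) hfK
      have fgK := (ih i j f g hfK hgK).1
      have c2 := conjK (commK hf.2 hg.2) fgK
      have X := mulK c1 c2 (i + j + 1) (by omega) (by omega)
      have hinv := invK (commK hfK hgK)
      have X' := conjK X hinv
      have c3 := conjK (commK hfK hg.2) hgK
      exact mulK X' c3 (i + j + 1) le_rfl (by omega)

/-- polynomial of every order -/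
def PPolyAll (Γ : ℕ → Subgroup G) (i : ℕ) (f : ℕ → G) : Prop := ∀ K, PPoly Γ K i f

lemma PPolyAll.mul {Γ : ℕ → Subgroup G} (hΓ : PFilt Γ) {f g : ℕ → G}
    (hf : PPolyAll Γ 0 f) (hg : PPolyAll Γ 0 g) : PPolyAll Γ 0 (f * g) := fun K =>
  (ppoly_closure hΓ K 0 0 f g (hf K) (hg K)).1

lemma PPolyAll.inv {Γ : ℕ → Subgroup G} (hΓ : PFilt Γ) {f : ℕ → G}
    (hf : PPolyAll Γ 0 f) : PPolyAll Γ 0 f⁻¹ := fun K =>
  (ppoly_closure hΓ K 0 0 f f (hf K) (hf K)).2.1

lemma ppoly_one (Γ : ℕ → Subgroup G) : ∀ (K i : ℕ), PPoly Γ K i (fun _ => (1 : G)) := by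
  intro K
  induction K with
  | zero =>
    intro i n
    exact one_mem _
  | succ K ih =>
    intro i
    refine ⟨fun n => one_mem _, ?_⟩
    have : psD (fun _ : ℕ => (1 : G)) = fun _ => 1 := by
      funext n
      simp [psD]
    rw [this]
    exact ih (i + 1)

lemma ppoly_const (Γ : ℕ → Subgroup G) (K i : ℕ) (c : G) (hc : c ∈ Γ i) :
    PPoly Γ K i (fun _ => c) := by
  cases K with
  | zero => exact fun n => hc
  | succ K =>
    refine ⟨fun n => hc, ?_⟩
    have : psD (fun _ : ℕ => c) = fun _ => 1 := by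
      funext n
      simp [psD]
    rw [this]
    exact ppoly_one Γ K (i + 1)

lemma ppoly_pow {Γ : ℕ → Subgroup G} (hΓ : PFilt Γ) (h1 : Γ 1 = ⊤) (x : G) :
    PPolyAll Γ 0 (fun n => x ^ n) := by
  have h0 : Γ 0 = ⊤ := top_le_iff.1 (h1 ▸ hΓ.anti 0 1 (by omega))
  intro K
  cases K with
  | zero =>
    intro n
    rw [h0]
    trivial
  | succ K =>
    refine ⟨fun n => by rw [h0]; trivial, ?_⟩
    have : psD (fun n : ℕ => x ^ n) = fun _ => x := by
      funext n
      simp [psD, pow_succ]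
    rw [this]
    exact ppoly_const Γ K 1 x (by rw [h1]; trivial)

lemma ppoly_choose {Γ : ℕ → Subgroup G} (hΓ : PFilt Γ) (r : ℕ) (c : G) (hc : c ∈ Γ r) :
    ∀ (k : ℕ), k ≤ r → ∀ K : ℕ, PPoly Γ K (r - k) (fun n => c ^ (n.choose k)) := by
  intro k
  induction k with
  | zero =>
    intro _ K
    have : (fun n : ℕ => c ^ (n.choose 0)) = fun _ => c := by
      funext n
      simp
    rw [this]
    exact ppoly_const Γ K _ c hc
  | succ k ih =>
    intro hk K
    have hval : ∀ n : ℕ, c ^ (n.choose (k + 1)) ∈ Γ (r - (k + 1)) := fun n =>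
      hΓ.anti _ _ (Nat.sub_le _ _) (pow_mem hc _)
    cases K with
    | zero => exact hval
    | succ K =>
      refine ⟨hval, ?_⟩
      have : psD (fun n : ℕ => c ^ (n.choose (k + 1))) = fun n => c ^ (n.choose k) := by
        funext n
        simp only [psD]
        rw [Nat.choose_succ_succ' n k, pow_add]
        group
      rw [this]
      have h2 : r - (k + 1) + 1 = r - k := by omega
      rw [h2]
      exact ih (by omega) K

lemma ppoly_vanish {Γ : ℕ → Subgroup G} : ∀ (k K i : ℕ) (g : ℕ → G), k ≤ K → PPoly Γ K i g →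
    (∀ j < k, g j = 1) → ∀ n, g n ∈ Γ (i + k) := by
  intro k
  induction k with
  | zero =>
    intro K i g _ hg _ n
    exact hg.val n
  | succ k ih =>
    intro K i g hK hg hv
    cases K with
    | zero => omega
    | succ K =>
      have h1 : ∀ n, psD g n ∈ Γ (i + 1 + k) := by
        apply ih K (i + 1) (psD g) (by omega) hg.2
        intro j hj
        simp only [psD]
        rw [hv j (by omega), hv (j + 1) (by omega)]
        simp
      have h2 : i + 1 + k = i + (k + 1) := by omega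
      rw [h2] at h1
      intro n
      induction n with
      | zero =>
        rw [hv 0 (by omega)]
        exact one_mem _
      | succ n ihn =>
        have : g (n + 1) = g n * psD g n := by
          simp [psD]
        rw [this]
        exact mul_mem ihn (h1 n)

theorem ppoly_eval {Γ : ℕ → Subgroup G} (hΓ : PFilt Γ) {p : ℕ} (hp : p.Prime)
    (hexp : ∀ x ∈ Γ 2, x ^ p = 1) (hbot : Γ p = ⊥) :
    ∀ (d k : ℕ), k + d = p → 2 ≤ k → ∀ g : ℕ → G, PPolyAll Γ 0 g → (∀ j < k, g j = 1) →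
      g p = 1 := by
  intro d
  induction d with
  | zero =>
    intro k hk _ g hg hv
    have := ppoly_vanish k k 0 g le_rfl (hg k) hv p
    rw [zero_add, show k = p by omega, hbot] at this
    simpa using this
  | succ d ih =>
    intro k hk hk2 g hg hv
    have hc : g k ∈ Γ k := by
      have := ppoly_vanish k k 0 g le_rfl (hg k) hv k
      simpa using this
    have hc2 : g k ∈ Γ 2 := hΓ.anti _ _ hk2 hc
    have hB : PPolyAll Γ 0 (fun n : ℕ => ((g k)⁻¹) ^ (n.choose k)) := by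
      intro K
      have := ppoly_choose hΓ k (g k)⁻¹ (inv_mem hc) k le_rfl K
      simpa using this
    have hg' : PPolyAll Γ 0 ((fun n : ℕ => ((g k)⁻¹) ^ (n.choose k)) * g) := hB.mul hΓ hg
    have hv' : ∀ j < k + 1, ((fun n : ℕ => ((g k)⁻¹) ^ (n.choose k)) * g) j = 1 := by
      intro j hj
      rcases Nat.lt_succ_iff_lt_or_eq.1 hj with h | h
      · simp [Nat.choose_eq_zero_of_lt h, hv j h]
      · subst h
        simp
    have h3 := ih (k + 1) (by omega) (by omega) _ hg' hv'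
    have hdvd : p ∣ p.choose k := hp.dvd_choose_self (by omega) (by omega)
    obtain ⟨m, hm⟩ := hdvd
    have h4 : ((g k)⁻¹) ^ (p.choose k) = 1 := by
      rw [hm, pow_mul, inv_pow, hexp _ hc2]
      simp
    simp only [Pi.mul_apply] at h3
    rw [h4, one_mul] at h3
    exact h3

theorem pow_mul_of_filt {Γ : ℕ → Subgroup G} (hΓ : PFilt Γ) (h1 : Γ 1 = ⊤) {p : ℕ} (hp : p.Prime)
    (hexp : ∀ x ∈ Γ 2, x ^ p = 1) (hbot : Γ p = ⊥) (a b : G) :
    (a * b) ^ p = a ^ p * b ^ p := by
  have hf : PPolyAll Γ 0 (((fun n : ℕ => b ^ n)⁻¹ * (fun n : ℕ => a ^ n)⁻¹) *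
      (fun n : ℕ => (a * b) ^ n)) :=
    (((ppoly_pow hΓ h1 b).inv hΓ).mul hΓ ((ppoly_pow hΓ h1 a).inv hΓ)).mul hΓ
      (ppoly_pow hΓ h1 (a * b))
  have hv : ∀ j < 2,
      (((fun n : ℕ => b ^ n)⁻¹ * (fun n : ℕ => a ^ n)⁻¹) * (fun n : ℕ => (a * b) ^ n)) j = 1 := by
    intro j hj
    interval_cases j
    · simp
    · simp
  have h := ppoly_eval hΓ hp hexp hbot (p - 2) 2 (by have := hp.two_le; omega) le_rfl _ hf hv
  simp only [Pi.mul_apply, Pi.inv_apply] at h
  have h' : (a * b) ^ p = a ^ p * b ^ p * ((b ^ p)⁻¹ * (a ^ p)⁻¹ * (a * b) ^ p) := by group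
  rw [h', h, mul_one]

end Cfsg.Agent.Helper29
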