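import Mathlib
import Cfsg.Prelude.Def_PLocal

/-!
Regular `p`-groups: the elements of order dividing `p ^ k` are closed under products, and
`a ^ p ^ k = b ^ p ^ k ↔ (a * b⁻¹) ^ p ^ k = 1`.
-/

namespace Cfsg.Agent.Helper29

open scoped commutatorElement

universe u

lemma reg_map_powerClosure {G H : Type*} [Group G] [Group H] (f : H →* G) (p n : ℕ)
    (K : Subgroup H) :
    (Cfsg.powerClosure p n K).map f = Cfsg.powerClosure p n (K.map f) := by
  unfold Cfsg.powerClosure
  rw [MonoidHom.map_closure]
  congr 1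
  ext y
  constructor
  · rintro ⟨z, ⟨x, hx, rfl⟩, rfl⟩
    exact ⟨f x, Subgroup.mem_map_of_mem f hx, by simp⟩
  · rintro ⟨x, ⟨w, hw, rfl⟩, rfl⟩
    exact ⟨w ^ p ^ n, ⟨w, hw, rfl⟩, by simp⟩

lemma reg_subgroup {G : Type*} [Group G] {p : ℕ} (hG : Cfsg.IsRegularPGroup p G)
    (H : Subgroup G) : Cfsg.IsRegularPGroup p H := by
  refine ⟨hG.1.to_subgroup H, ?_⟩
  intro a b n
  obtain ⟨c, hc, hab⟩ := hG.2 (a : G) (b : G) n
  have hmap : (Cfsg.powerClosure p n
      ⁅Subgroup.closure ({a, b} : Set H), Subgroup.closure ({a, b} : Set H)⁆).map H.subtype =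
      Cfsg.powerClosure p n
        ⁅Subgroup.closure ({(a : G), (b : G)} : Set G),
          Subgroup.closure ({(a : G), (b : G)} : Set G)⁆ := by
    rw [reg_map_powerClosure, Subgroup.map_commutator, MonoidHom.map_closure, Set.image_pair]
    rfl
  rw [← hmap] at hc
  obtain ⟨c', hc', rfl⟩ := hc
  refine ⟨c', hc', ?_⟩
  apply Subtype.ext
  simpa using hab

lemma reg_kill {G : Type*} [Group G] (p k : ℕ) (N K : Subgroup G) (hKN : K ≤ N)
    (hN : ∀ z ∈ N, z ^ p ^ k = 1) : ∀ c ∈ Cfsg.powerClosure p k K, c = 1 := by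
  intro c hc
  have : Cfsg.powerClosure p k K ≤ ⊥ := by
    unfold Cfsg.powerClosure
    rw [Subgroup.closure_le]
    rintro y ⟨x, hx, rfl⟩
    simp [hN x (hKN hx)]
  simpa using this hc

lemma reg_comm_le {G : Type*} [Group G] (N : Subgroup G) [N.Normal] (S : Set G)
    (h : ∀ s ∈ S, ∀ t ∈ S, ⁅s, t⁆ ∈ N) : ⁅Subgroup.closure S, Subgroup.closure S⁆ ≤ N := by
  have key : ∀ g h : G, ⁅g, h⁆ ∈ N ↔
      Commute (QuotientGroup.mk' N g) (QuotientGroup.mk' N h) := by
    intro g h
    rw [← commutatorElement_eq_one_iff_commute, ← map_commutatorElement]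
    exact (QuotientGroup.eq_one_iff _).symm
  rw [Subgroup.commutator_le]
  intro g hg h' hh
  rw [key]
  have h1 : ∀ g ∈ Subgroup.closure S, ∀ t ∈ S,
      Commute (QuotientGroup.mk' N g) (QuotientGroup.mk' N t) := by
    intro g hg t ht
    refine Subgroup.closure_induction (p := fun g _ =>
      Commute (QuotientGroup.mk' N g) (QuotientGroup.mk' N t)) ?_ ?_ ?_ ?_ hg
    · intro x hx
      exact (key x t).1 (h x hx t ht)
    · simp
    · intro x y _ _ hx hy
      rw [map_mul]
      exact hx.mul_left hy
    · intro x _ hx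
      rw [map_inv]
      exact hx.inv_left
  refine Subgroup.closure_induction (p := fun h' _ =>
    Commute (QuotientGroup.mk' N g) (QuotientGroup.mk' N h')) ?_ ?_ ?_ ?_ hh
  · intro x hx
    exact h1 g hg x hx
  · simp
  · intro x y _ _ hx hy
    rw [map_mul]
    exact hx.mul_right hy
  · intro x _ hx
    rw [map_inv]
    exact hx.inv_right

lemma reg_proper_normal {G : Type*} [Group G] [Finite G] {p : ℕ} [Fact p.Prime]
    (hG : IsPGroup p G) (a : G) (h : Subgroup.zpowers a ≠ ⊤) :
    ∃ M : Subgroup G, M.Normal ∧ M ≠ ⊤ ∧ a ∈ M := by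
  have : Group.IsNilpotent G := hG.isNilpotent
  obtain ⟨M, hM, hle⟩ := (eq_top_or_exists_le_coatom (Subgroup.zpowers a)).resolve_left h
  exact ⟨M, Subgroup.NormalizerCondition.normal_of_coatom M Group.normalizerCondition_of_isNilpotent hM,
    hM.1, hle (Subgroup.mem_zpowers a)⟩

lemma reg_comm_mem {G : Type*} [Group G] (N : Subgroup G) [N.Normal] (x y : G) (hx : x ∈ N) :
    ⁅x, y⁆ ∈ N ∧ ⁅y, x⁆ ∈ N := by
  have h1 : ⁅y, x⁆ ∈ N := by
    rw [commutatorElement_def]
    exact N.mul_mem (‹N.Normal›.conj_mem x hx y) (N.inv_mem hx)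
  refine ⟨?_, h1⟩
  rw [← commutatorElement_inv]
  exact N.inv_mem h1

theorem reg_main (p : ℕ) [Fact p.Prime] (k : ℕ) : ∀ n : ℕ, ∀ (G : Type u) [Group G] [Finite G],
    Nat.card G ≤ n → Cfsg.IsRegularPGroup p G →
    (∀ x y : G, x ^ p ^ k = 1 → y ^ p ^ k = 1 → (x * y) ^ p ^ k = 1) ∧
    (∀ a b : G, a ^ p ^ k = b ^ p ^ k ↔ (a * b⁻¹) ^ p ^ k = 1) := by
  intro n
  induction n with
  | zero =>
    intro G _ _ hcard
    exact absurd hcard (by have := Nat.card_pos (α := G); omega)
  | succ n ih =>
    intro G _ _ hcard hG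
    by_cases hcomm : ∀ x y : G, x * y = y * x
    · constructor
      · intro x y hx hy
        rw [Commute.mul_pow (hcomm x y), hx, hy, one_mul]
      · intro a b
        rw [Commute.mul_pow (hcomm a b⁻¹), inv_pow, mul_inv_eq_one]
    · -- every element lies in a proper normal subgroup
      have hprop : ∀ a : G, ∃ M : Subgroup G, M.Normal ∧ M ≠ ⊤ ∧ a ∈ M := by
        intro a
        apply reg_proper_normal hG.1
        intro htop
        apply hcomm
        intro x y
        have hx : x ∈ Subgroup.zpowers a := htop ▸ Subgroup.mem_top x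
        have hy : y ∈ Subgroup.zpowers a := htop ▸ Subgroup.mem_top y
        obtain ⟨i, rfl⟩ := hx
        obtain ⟨j, rfl⟩ := hy
        exact (Commute.refl a).zpow_zpow i j
      have hM : ∀ M : Subgroup G, M ≠ ⊤ →
          (∀ x y : M, x ^ p ^ k = 1 → y ^ p ^ k = 1 → (x * y) ^ p ^ k = 1) ∧
          (∀ a b : M, a ^ p ^ k = b ^ p ^ k ↔ (a * b⁻¹) ^ p ^ k = 1) := by
        intro M hne
        apply ih M _ (reg_subgroup hG M)
        have h1 : Nat.card M ≤ Nat.card G := Subgroup.card_le_card_group M
        have h2 : Nat.card M ≠ Nat.card G := fun h => hne (Subgroup.eq_top_of_card_eq M h)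
        omega
      have tors : ∀ x : G, x ^ p ^ k = 1 → ∀ z ∈ Subgroup.normalClosure {x}, z ^ p ^ k = 1 := by
        intro x hx z hz
        obtain ⟨M, hMn, hMne, hxM⟩ := hprop x
        let T : Subgroup G :=
          { carrier := {z | z ∈ M ∧ z ^ p ^ k = 1}
            mul_mem' := by
              rintro a b ⟨ha, ha'⟩ ⟨hb, hb'⟩
              refine ⟨M.mul_mem ha hb, ?_⟩
              have := (hM M hMne).1 ⟨a, ha⟩ ⟨b, hb⟩ (Subtype.ext (by simpa using ha'))
                (Subtype.ext (by simpa using hb'))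
              simpa using congrArg Subtype.val this
            one_mem' := ⟨M.one_mem, one_pow _⟩
            inv_mem' := by
              rintro a ⟨ha, ha'⟩
              exact ⟨M.inv_mem ha, by rw [inv_pow, ha', inv_one]⟩ }
        have hle : Subgroup.normalClosure {x} ≤ T := by
          unfold Subgroup.normalClosure
          rw [Subgroup.closure_le]
          intro y hy
          rw [Group.mem_conjugatesOfSet_iff] at hy
          obtain ⟨s, hs, hsy⟩ := hy
          rw [Set.mem_singleton_iff] at hs
          subst hs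
          rw [isConj_iff] at hsy
          obtain ⟨c, rfl⟩ := hsy
          exact ⟨hMn.conj_mem s hxM c, by rw [conj_pow, hx, mul_one, mul_inv_cancel]⟩
        exact (hle hz).2
      constructor
      · intro x y hx hy
        obtain ⟨c, hc, hxy⟩ := hG.2 x y k
        have hc1 : c = 1 := by
          refine reg_kill p k (Subgroup.normalClosure {x}) _ ?_ (tors x hx) c hc
          apply reg_comm_le
          have hxN : x ∈ Subgroup.normalClosure {x} :=
            Subgroup.subset_normalClosure (Set.mem_singleton x)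
          have h2 := reg_comm_mem (Subgroup.normalClosure {x}) x y hxN
          rintro s (rfl | rfl) t (rfl | rfl)
          · simp
          · exact h2.1
          · exact h2.2
          · simp
        rw [hxy, hx, hy, hc1]
        simp
      · intro a b
        constructor
        · intro hab
          obtain ⟨M, hMn, hMne, haM⟩ := hprop a
          have ha'M : b * a * b⁻¹ ∈ M := hMn.conj_mem a haM b
          have hpow : (b * a * b⁻¹) ^ p ^ k = a ^ p ^ k := by
            rw [conj_pow, hab, ← pow_succ', pow_succ, mul_inv_cancel_right]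
          have hw := ((hM M hMne).2 ⟨b * a * b⁻¹, ha'M⟩ ⟨a, haM⟩).1
            (Subtype.ext (by simpa using hpow))
          have hw' : ⁅b, a⁆ ^ p ^ k = 1 := by
            have := congrArg Subtype.val hw
            simpa [commutatorElement_def] using this
          have hwN : ⁅b, a⁆ ∈ Subgroup.normalClosure {⁅b, a⁆} :=
            Subgroup.subset_normalClosure (Set.mem_singleton _)
          obtain ⟨c, hc, hxy⟩ := hG.2 a b⁻¹ k
          have hc1 : c = 1 := by
            refine reg_kill p k (Subgroup.normalClosure {⁅b, a⁆}) _ ?_ (tors _ hw') c hc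
            apply reg_comm_le
            have h1 : ⁅b⁻¹, a⁆ ∈ Subgroup.normalClosure {⁅b, a⁆} := by
              have : ⁅b⁻¹, a⁆ = b⁻¹ * ⁅b, a⁆⁻¹ * b⁻¹⁻¹ := by
                simp only [commutatorElement_def]
                group
              rw [this]
              exact Subgroup.normalClosure_normal.conj_mem _ (Subgroup.inv_mem _ hwN) _
            have h2 : ⁅a, b⁻¹⁆ ∈ Subgroup.normalClosure {⁅b, a⁆} := by
              have h3 : ⁅a, b⁻¹⁆ = ⁅b⁻¹, a⁆⁻¹ := (commutatorElement_inv b⁻¹ a).symm
              rw [h3]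
              exact Subgroup.inv_mem _ h1
            rintro s (rfl | rfl) t (rfl | rfl)
            · simp
            · exact h2
            · exact h1
            · simp
          rw [hxy, hc1, hab, inv_pow]
          simp
        · intro hd
          obtain ⟨c, hc, hxy⟩ := hG.2 (a * b⁻¹) b k
          have hc1 : c = 1 := by
            refine reg_kill p k (Subgroup.normalClosure {a * b⁻¹}) _ ?_ (tors _ hd) c hc
            apply reg_comm_le
            have hxN : a * b⁻¹ ∈ Subgroup.normalClosure {a * b⁻¹} :=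
              Subgroup.subset_normalClosure (Set.mem_singleton _)
            have h2 := reg_comm_mem (Subgroup.normalClosure {a * b⁻¹}) (a * b⁻¹) b hxN
            rintro s (rfl | rfl) t (rfl | rfl)
            · simp
            · exact h2.1
            · exact h2.2
            · simp
          rw [inv_mul_cancel_right, hd, hc1] at hxy
          simpa using hxy

theorem reg_mul_pow_eq_one {G : Type u} [Group G] [Finite G] {p : ℕ} [Fact p.Prime]
    (hG : Cfsg.IsRegularPGroup p G) (k : ℕ) (x y : G) (hx : x ^ p ^ k = 1) (hy : y ^ p ^ k = 1) :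
    (x * y) ^ p ^ k = 1 :=
  (reg_main p k (Nat.card G) G le_rfl hG).1 x y hx hy

theorem reg_pow_eq_iff {G : Type u} [Group G] [Finite G] {p : ℕ} [Fact p.Prime]
    (hG : Cfsg.IsRegularPGroup p G) (k : ℕ) (a b : G) :
    a ^ p ^ k = b ^ p ^ k ↔ (a * b⁻¹) ^ p ^ k = 1 :=
  (reg_main p k (Nat.card G) G le_rfl hG).2 a b

end Cfsg.Agent.Helper29
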