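import Mathlib
import Cfsg.Prelude.Def_PLocal
import Cfsg.Agent.Helper29.Regular

/-!
Regular `p`-groups, level by level: `RegAt p n G` is the defining identity of a regular `p`-group
for the single exponent `p ^ n`.
-/

namespace Cfsg.Agent.Helper29

open scoped commutatorElement

universe u

/-- `G` is a `p`-group that satisfies the regularity identity for the exponent `p ^ n`. -/
def RegAt (p n : ℕ) (G : Type*) [Group G] : Prop :=
  IsPGroup p G ∧ ∀ a b : G,
    ∃ c ∈ Cfsg.powerClosure p n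
        ⁅Subgroup.closure ({a, b} : Set G), Subgroup.closure ({a, b} : Set G)⁆,
      (a * b) ^ (p ^ n) = a ^ (p ^ n) * b ^ (p ^ n) * c

lemma regAt_of_regular {G : Type*} [Group G] {p : ℕ} (hG : Cfsg.IsRegularPGroup p G) (n : ℕ) :
    RegAt p n G :=
  ⟨hG.1, fun a b => hG.2 a b n⟩

lemma RegAt.map {G H : Type*} [Group G] [Group H] {p n : ℕ} (hG : RegAt p n G) (f : G →* H)
    (hf : Function.Surjective f) : RegAt p n H := by
  refine ⟨hG.1.of_surjective f hf, ?_⟩
  intro a b
  obtain ⟨a, rfl⟩ := hf a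
  obtain ⟨b, rfl⟩ := hf b
  obtain ⟨c, hc, hab⟩ := hG.2 a b
  refine ⟨f c, ?_, ?_⟩
  · have hmap : (Cfsg.powerClosure p n
        ⁅Subgroup.closure ({a, b} : Set G), Subgroup.closure ({a, b} : Set G)⁆).map f =
        Cfsg.powerClosure p n
          ⁅Subgroup.closure ({f a, f b} : Set H), Subgroup.closure ({f a, f b} : Set H)⁆ := by
      rw [reg_map_powerClosure, Subgroup.map_commutator, MonoidHom.map_closure, Set.image_pair]
    rw [← hmap]
    exact Subgroup.mem_map_of_mem f hc
  · rw [← map_mul, ← map_pow, hab]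
    simp

lemma RegAt.subgroup {G : Type*} [Group G] {p n : ℕ} (hG : RegAt p n G)
    (H : Subgroup G) : RegAt p n H := by
  refine ⟨hG.1.to_subgroup H, ?_⟩
  intro a b
  obtain ⟨c, hc, hab⟩ := hG.2 (a : G) (b : G)
  have hmap : (Cfsg.powerClosure p n
      ⁅Subgroup.closure ({a, b} : Set H), Subgroup.closure ({a, b} : Set H)⁆).map H.subtype =
      Cfsg.powerClosure p n
        ⁅Subgroup.closure ({(a : G), (b : G)} : Set G),
          Subgroup.closure ({(a : G), (b : G)} : Set G)⁆ := by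
    rw [reg_map_powerClosure, Subgroup.map_commutator, MonoidHom.map_closure, Set.image_pair]
    rfl
  rw [← hmap] at hc
  obtain ⟨c', hc', rfl⟩ := hc
  refine ⟨c', hc', ?_⟩
  apply Subtype.ext
  simpa using hab

lemma reg_proper_normal' {G : Type*} [Group G] [Finite G] {p : ℕ} [Fact p.Prime]
    (hG : IsPGroup p G) (a : G) (h : Subgroup.zpowers a ≠ ⊤) :
    ∃ M : Subgroup G, M.Normal ∧ M ≠ ⊤ ∧ a ∈ M ∧ ⁅(⊤ : Subgroup G), ⊤⁆ ≤ M := by
  have : Group.IsNilpotent G := hG.isNilpotent
  obtain ⟨M, hM, hle⟩ := (eq_top_or_exists_le_coatom (Subgroup.zpowers a)).resolve_left h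
  have hMn : M.Normal :=
    Subgroup.NormalizerCondition.normal_of_coatom M Group.normalizerCondition_of_isNilpotent hM
  refine ⟨M, hMn, hM.1, hle (Subgroup.mem_zpowers a), ?_⟩
  obtain ⟨g, hg⟩ : ∃ g, g ∉ M := by
    by_contra hcon
    push Not at hcon
    exact hM.1 (eq_top_iff.2 fun x _ => hcon x)
  have htop : (Subgroup.zpowers (QuotientGroup.mk' M g)).comap (QuotientGroup.mk' M) = ⊤ := by
    apply hM.2
    refine lt_of_le_of_ne ?_ ?_
    · intro x hx
      rw [Subgroup.mem_comap]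
      have : QuotientGroup.mk' M x = 1 := (QuotientGroup.eq_one_iff x).2 hx
      rw [this]
      exact Subgroup.one_mem _
    · intro heq
      apply hg
      rw [heq, Subgroup.mem_comap]
      exact Subgroup.mem_zpowers _
  rw [Subgroup.commutator_le]
  intro x _ y _
  have hx : QuotientGroup.mk' M x ∈ Subgroup.zpowers (QuotientGroup.mk' M g) := by
    rw [← Subgroup.mem_comap, htop]
    trivial
  have hy : QuotientGroup.mk' M y ∈ Subgroup.zpowers (QuotientGroup.mk' M g) := by
    rw [← Subgroup.mem_comap, htop]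
    trivial
  obtain ⟨i, hi⟩ := hx
  obtain ⟨j, hj⟩ := hy
  have : QuotientGroup.mk' M ⁅x, y⁆ = 1 := by
    rw [map_commutatorElement, commutatorElement_eq_one_iff_commute, ← hi, ← hj]
    exact (Commute.refl _).zpow_zpow i j
  exact (QuotientGroup.eq_one_iff _).1 this

theorem regAt_main (p : ℕ) [Fact p.Prime] (k : ℕ) : ∀ n : ℕ, ∀ (G : Type u) [Group G] [Finite G],
    Nat.card G ≤ n → RegAt p k G →
    (∀ x y : G, x ^ p ^ k = 1 → y ^ p ^ k = 1 → (x * y) ^ p ^ k = 1) ∧
    (∀ a b : G, a ^ p ^ k = b ^ p ^ k ↔ (a * b⁻¹) ^ p ^ k = 1) := by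
  intro n
  induction n with
  | zero =>
    intro G _ _ hcard
    exact absurd hcard (by have := Nat.card_pos (α := G); omega)
  | succ n ih =>
    intro G _ _ hcard hG
    by_cases hcomm : ∀ x y : G, x * y = y * x
    · constructor
      · intro x y hx hy
        rw [Commute.mul_pow (hcomm x y), hx, hy, one_mul]
      · intro a b
        rw [Commute.mul_pow (hcomm a b⁻¹), inv_pow, mul_inv_eq_one]
    · -- every element lies in a proper normal subgroup
      have hprop : ∀ a : G, ∃ M : Subgroup G, M.Normal ∧ M ≠ ⊤ ∧ a ∈ M := by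
        intro a
        apply reg_proper_normal hG.1
        intro htop
        apply hcomm
        intro x y
        have hx : x ∈ Subgroup.zpowers a := htop ▸ Subgroup.mem_top x
        have hy : y ∈ Subgroup.zpowers a := htop ▸ Subgroup.mem_top y
        obtain ⟨i, rfl⟩ := hx
        obtain ⟨j, rfl⟩ := hy
        exact (Commute.refl a).zpow_zpow i j
      have hM : ∀ M : Subgroup G, M ≠ ⊤ →
          (∀ x y : M, x ^ p ^ k = 1 → y ^ p ^ k = 1 → (x * y) ^ p ^ k = 1) ∧
          (∀ a b : M, a ^ p ^ k = b ^ p ^ k ↔ (a * b⁻¹) ^ p ^ k = 1) := by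
        intro M hne
        apply ih M _ (hG.subgroup M)
        have h1 : Nat.card M ≤ Nat.card G := Subgroup.card_le_card_group M
        have h2 : Nat.card M ≠ Nat.card G := fun h => hne (Subgroup.eq_top_of_card_eq M h)
        omega
      have tors : ∀ x : G, x ^ p ^ k = 1 → ∀ z ∈ Subgroup.normalClosure {x}, z ^ p ^ k = 1 := by
        intro x hx z hz
        obtain ⟨M, hMn, hMne, hxM⟩ := hprop x
        let T : Subgroup G :=
          { carrier := {z | z ∈ M ∧ z ^ p ^ k = 1}
            mul_mem' := by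
              rintro a b ⟨ha, ha'⟩ ⟨hb, hb'⟩
              refine ⟨M.mul_mem ha hb, ?_⟩
              have := (hM M hMne).1 ⟨a, ha⟩ ⟨b, hb⟩ (Subtype.ext (by simpa using ha'))
                (Subtype.ext (by simpa using hb'))
              simpa using congrArg Subtype.val this
            one_mem' := ⟨M.one_mem, one_pow _⟩
            inv_mem' := by
              rintro a ⟨ha, ha'⟩
              exact ⟨M.inv_mem ha, by rw [inv_pow, ha', inv_one]⟩ }
        have hle : Subgroup.normalClosure {x} ≤ T := by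
          unfold Subgroup.normalClosure
          rw [Subgroup.closure_le]
          intro y hy
          rw [Group.mem_conjugatesOfSet_iff] at hy
          obtain ⟨s, hs, hsy⟩ := hy
          rw [Set.mem_singleton_iff] at hs
          subst hs
          rw [isConj_iff] at hsy
          obtain ⟨c, rfl⟩ := hsy
          exact ⟨hMn.conj_mem s hxM c, by rw [conj_pow, hx, mul_one, mul_inv_cancel]⟩
        exact (hle hz).2
      constructor
      · intro x y hx hy
        obtain ⟨c, hc, hxy⟩ := hG.2 x y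
        have hc1 : c = 1 := by
          refine reg_kill p k (Subgroup.normalClosure {x}) _ ?_ (tors x hx) c hc
          apply reg_comm_le
          have hxN : x ∈ Subgroup.normalClosure {x} :=
            Subgroup.subset_normalClosure (Set.mem_singleton x)
          have h2 := reg_comm_mem (Subgroup.normalClosure {x}) x y hxN
          rintro s (rfl | rfl) t (rfl | rfl)
          · simp
          · exact h2.1
          · exact h2.2
          · simp
        rw [hxy, hx, hy, hc1]
        simp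
      · intro a b
        constructor
        · intro hab
          obtain ⟨M, hMn, hMne, haM⟩ := hprop a
          have ha'M : b * a * b⁻¹ ∈ M := hMn.conj_mem a haM b
          have hpow : (b * a * b⁻¹) ^ p ^ k = a ^ p ^ k := by
            rw [conj_pow, hab, ← pow_succ', pow_succ, mul_inv_cancel_right]
          have hw := ((hM M hMne).2 ⟨b * a * b⁻¹, ha'M⟩ ⟨a, haM⟩).1
            (Subtype.ext (by simpa using hpow))
          have hw' : ⁅b, a⁆ ^ p ^ k = 1 := by
            have := congrArg Subtype.val hw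
            simpa [commutatorElement_def] using this
          have hwN : ⁅b, a⁆ ∈ Subgroup.normalClosure {⁅b, a⁆} :=
            Subgroup.subset_normalClosure (Set.mem_singleton _)
          obtain ⟨c, hc, hxy⟩ := hG.2 a b⁻¹
          have hc1 : c = 1 := by
            refine reg_kill p k (Subgroup.normalClosure {⁅b, a⁆}) _ ?_ (tors _ hw') c hc
            apply reg_comm_le
            have h1 : ⁅b⁻¹, a⁆ ∈ Subgroup.normalClosure {⁅b, a⁆} := by
              have : ⁅b⁻¹, a⁆ = b⁻¹ * ⁅b, a⁆⁻¹ * b⁻¹⁻¹ := by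
                simp only [commutatorElement_def]
                group
              rw [this]
              exact Subgroup.normalClosure_normal.conj_mem _ (Subgroup.inv_mem _ hwN) _
            have h2 : ⁅a, b⁻¹⁆ ∈ Subgroup.normalClosure {⁅b, a⁆} := by
              have h3 : ⁅a, b⁻¹⁆ = ⁅b⁻¹, a⁆⁻¹ := (commutatorElement_inv b⁻¹ a).symm
              rw [h3]
              exact Subgroup.inv_mem _ h1
            rintro s (rfl | rfl) t (rfl | rfl)
            · simp
            · exact h2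
            · exact h1
            · simp
          rw [hxy, hc1, hab, inv_pow]
          simp
        · intro hd
          obtain ⟨c, hc, hxy⟩ := hG.2 (a * b⁻¹) b
          have hc1 : c = 1 := by
            refine reg_kill p k (Subgroup.normalClosure {a * b⁻¹}) _ ?_ (tors _ hd) c hc
            apply reg_comm_le
            have hxN : a * b⁻¹ ∈ Subgroup.normalClosure {a * b⁻¹} :=
              Subgroup.subset_normalClosure (Set.mem_singleton _)
            have h2 := reg_comm_mem (Subgroup.normalClosure {a * b⁻¹}) (a * b⁻¹) b hxN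
            rintro s (rfl | rfl) t (rfl | rfl)
            · simp
            · exact h2.1
            · exact h2.2
            · simp
          rw [inv_mul_cancel_right, hd, hc1] at hxy
          simpa using hxy

theorem regAt_pow_eq_iff {G : Type u} [Group G] [Finite G] {p : ℕ} [Fact p.Prime] {k : ℕ}
    (hG : RegAt p k G) (a b : G) :
    a ^ p ^ k = b ^ p ^ k ↔ (a * b⁻¹) ^ p ^ k = 1 :=
  (regAt_main p k (Nat.card G) G le_rfl hG).2 a b

theorem regAt_comm_iff {G : Type u} [Group G] [Finite G] {p : ℕ} [Fact p.Prime] {k : ℕ}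
    (hG : RegAt p k G) (a b : G) :
    a ^ p ^ k * b = b * a ^ p ^ k ↔ (a⁻¹ * b⁻¹ * a * b) ^ p ^ k = 1 := by
  have h := regAt_pow_eq_iff hG (b⁻¹ * a * b) a
  have h1 : (b⁻¹ * a * b) ^ p ^ k = b⁻¹ * a ^ p ^ k * b := by
    have := conj_pow (a := b⁻¹) (b := a) (i := p ^ k)
    simpa using this
  have h2 : (a⁻¹ * b⁻¹ * a * b) ^ p ^ k = a⁻¹ * (b⁻¹ * a * b * a⁻¹) ^ p ^ k * a := by
    have := conj_pow (a := a⁻¹) (b := b⁻¹ * a * b * a⁻¹) (i := p ^ k)
    rw [inv_inv] at this
    rw [← this]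
    congr 1
    group
  have h6 : (a⁻¹ * b⁻¹ * a * b) ^ p ^ k = 1 ↔ (b⁻¹ * a * b * a⁻¹) ^ p ^ k = 1 := by
    rw [h2]
    constructor
    · intro hc
      have h4 : a * (a⁻¹ * (b⁻¹ * a * b * a⁻¹) ^ p ^ k * a) * a⁻¹ = a * 1 * a⁻¹ := by rw [hc]
      rw [mul_one, mul_inv_cancel] at h4
      rw [← h4]
      group
    · intro hc
      rw [hc]
      simp
  rw [h6, ← h, h1]
  constructor
  · intro hc
    rw [mul_assoc, hc, inv_mul_cancel_left]
  · intro hc
    calc a ^ p ^ k * b = b * (b⁻¹ * a ^ p ^ k * b) := by group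
      _ = b * a ^ p ^ k := by rw [hc]

theorem regAt_pow_mul_main (p : ℕ) [Fact p.Prime] (k : ℕ) :
    ∀ n : ℕ, ∀ (G : Type u) [Group G] [Finite G],
    Nat.card G ≤ n → RegAt p k G → ∀ a b : G, ∃ e : G, a ^ p ^ k * b ^ p ^ k = e ^ p ^ k := by
  intro n
  induction n with
  | zero =>
    intro G _ _ hcard
    exact absurd hcard (by have := Nat.card_pos (α := G); omega)
  | succ n ih =>
    intro G _ _ hcard hG a b
    by_cases hcomm : ∀ x y : G, x * y = y * x
    · exact ⟨a * b, (Commute.mul_pow (hcomm a b) _).symm⟩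
    · have hne : Subgroup.zpowers (a * b) ≠ ⊤ := by
        intro htop
        apply hcomm
        intro x y
        have hx : x ∈ Subgroup.zpowers (a * b) := htop ▸ Subgroup.mem_top x
        have hy : y ∈ Subgroup.zpowers (a * b) := htop ▸ Subgroup.mem_top y
        obtain ⟨i, rfl⟩ := hx
        obtain ⟨j, rfl⟩ := hy
        exact (Commute.refl (a * b)).zpow_zpow i j
      obtain ⟨M, hMn, hMne, habM, hcM⟩ := reg_proper_normal' hG.1 (a * b) hne
      have hMP : ∀ x y : M, ∃ e : M, x ^ p ^ k * y ^ p ^ k = e ^ p ^ k := by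
        apply ih M _ (hG.subgroup M)
        have h1 : Nat.card M ≤ Nat.card G := Subgroup.card_le_card_group M
        have h2 : Nat.card M ≠ Nat.card G := fun h => hMne (Subgroup.eq_top_of_card_eq M h)
        omega
      let T : Subgroup G :=
        { carrier := {y | ∃ x ∈ M, y = x ^ p ^ k}
          mul_mem' := by
            rintro _ _ ⟨x, hx, rfl⟩ ⟨y, hy, rfl⟩
            obtain ⟨e, he⟩ := hMP ⟨x, hx⟩ ⟨y, hy⟩
            refine ⟨e, e.2, ?_⟩
            simpa using congrArg Subtype.val he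
          one_mem' := ⟨1, M.one_mem, (one_pow _).symm⟩
          inv_mem' := by
            rintro _ ⟨x, hx, rfl⟩
            exact ⟨x⁻¹, M.inv_mem hx, (inv_pow _ _).symm⟩ }
      obtain ⟨c, hc, hab⟩ := hG.2 a b
      have hcT : c ∈ T := by
        have hle : Cfsg.powerClosure p k
            ⁅Subgroup.closure ({a, b} : Set G), Subgroup.closure ({a, b} : Set G)⁆ ≤ T := by
          unfold Cfsg.powerClosure
          rw [Subgroup.closure_le]
          rintro y ⟨x, hx, rfl⟩
          exact ⟨x, hcM (Subgroup.commutator_mono le_top le_top hx), rfl⟩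
        exact hle hc
      have h3 : a ^ p ^ k * b ^ p ^ k = (a * b) ^ p ^ k * c⁻¹ := by
        rw [hab, mul_inv_cancel_right]
      have h4 : (a * b) ^ p ^ k * c⁻¹ ∈ T := T.mul_mem ⟨a * b, habM, rfl⟩ (T.inv_mem hcT)
      obtain ⟨x, _, hx⟩ := h4
      exact ⟨x, h3.trans hx⟩

theorem regAt_powerClosure {G : Type u} [Group G] [Finite G] {p : ℕ} [Fact p.Prime] {k : ℕ}
    (hG : RegAt p k G) (H : Subgroup G) :
    ∀ c ∈ Cfsg.powerClosure p k H, ∃ x ∈ H, c = x ^ p ^ k := by
  have hH := regAt_pow_mul_main p k (Nat.card H) H le_rfl (hG.subgroup H)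
  let T : Subgroup G :=
    { carrier := {y | ∃ x ∈ H, y = x ^ p ^ k}
      mul_mem' := by
        rintro _ _ ⟨x, hx, rfl⟩ ⟨y, hy, rfl⟩
        obtain ⟨e, he⟩ := hH ⟨x, hx⟩ ⟨y, hy⟩
        refine ⟨e, e.2, ?_⟩
        simpa using congrArg Subtype.val he
      one_mem' := ⟨1, H.one_mem, (one_pow _).symm⟩
      inv_mem' := by
        rintro _ ⟨x, hx, rfl⟩
        exact ⟨x⁻¹, H.inv_mem hx, (inv_pow _ _).symm⟩ }
  have hle : Cfsg.powerClosure p k H ≤ T := by
    unfold Cfsg.powerClosure
    rw [Subgroup.closure_le]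
    rintro y ⟨x, hx, rfl⟩
    exact ⟨x, hx, rfl⟩
  intro c hc
  exact hle hc

lemma reg_powerClosure_normal {G : Type*} [Group G] (p k : ℕ) (K : Subgroup G) [hK : K.Normal] :
    (Cfsg.powerClosure p k K).Normal := by
  constructor
  intro n hn g
  have h1 : (Cfsg.powerClosure p k K).map (MulAut.conj g).toMonoidHom =
      Cfsg.powerClosure p k K := by
    rw [reg_map_powerClosure]
    congr 1
    ext x
    constructor
    · rintro ⟨y, hy, rfl⟩
      exact hK.conj_mem y hy g
    · intro hx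
      refine ⟨g⁻¹ * x * g, by simpa using hK.conj_mem x hx g⁻¹, ?_⟩
      simp only [MulEquiv.coe_toMonoidHom, MulAut.conj_apply]
      group
  rw [← h1]
  exact ⟨n, hn, by simp [MulAut.conj_apply]⟩

theorem regAt_comm_powerClosure {G : Type u} [Group G] [Finite G] {p : ℕ} [Fact p.Prime] {k : ℕ}
    (hG : RegAt p k G) (H : Subgroup G) :
    ⁅Cfsg.powerClosure p k H, Cfsg.powerClosure p k H⁆ ≤ Cfsg.powerClosure p k ⁅H, H⁆ := by
  have hH : RegAt p k H := hG.subgroup H
  obtain ⟨N, hN⟩ : ∃ N : Subgroup H, N = Cfsg.powerClosure p k ⁅(⊤ : Subgroup H), ⊤⁆ := ⟨_, rfl⟩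
  have hNn : N.Normal := by
    rw [hN]
    exact reg_powerClosure_normal p k _
  have hQ : RegAt p k (H ⧸ N) := hH.map (QuotientGroup.mk' N) (QuotientGroup.mk'_surjective N)
  have hcent : ∀ x y : H,
      Commute (QuotientGroup.mk' N x ^ p ^ k) (QuotientGroup.mk' N y) := by
    intro x y
    refine (regAt_comm_iff hQ (QuotientGroup.mk' N x) (QuotientGroup.mk' N y)).2 ?_
    rw [← map_inv, ← map_inv, ← map_mul, ← map_mul, ← map_mul, ← map_pow]
    apply (QuotientGroup.eq_one_iff _).2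
    rw [hN]
    apply Subgroup.subset_closure
    refine ⟨x⁻¹ * y⁻¹ * x * y, ?_, rfl⟩
    have : x⁻¹ * y⁻¹ * x * y = ⁅x⁻¹, y⁻¹⁆ := by simp [commutatorElement_def]
    rw [this]
    exact Subgroup.commutator_mem_commutator (Subgroup.mem_top _) (Subgroup.mem_top _)
  have hmapN : N.map H.subtype = Cfsg.powerClosure p k ⁅H, H⁆ := by
    rw [hN, reg_map_powerClosure, Subgroup.map_commutator, ← MonoidHom.range_eq_map,
      Subgroup.range_subtype]
  rw [Subgroup.commutator_le]
  intro u hu v hv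
  obtain ⟨x, hx, rfl⟩ := regAt_powerClosure hG H u hu
  obtain ⟨y, hy, rfl⟩ := regAt_powerClosure hG H v hv
  rw [← hmapN]
  refine ⟨⁅(⟨x, hx⟩ : H) ^ p ^ k, (⟨y, hy⟩ : H) ^ p ^ k⁆, ?_, by simp⟩
  have : QuotientGroup.mk' N ⁅(⟨x, hx⟩ : H) ^ p ^ k, (⟨y, hy⟩ : H) ^ p ^ k⁆ = 1 := by
    rw [map_commutatorElement, commutatorElement_eq_one_iff_commute, map_pow, map_pow]
    exact (hcent ⟨x, hx⟩ ⟨y, hy⟩).pow_right _
  exact (QuotientGroup.eq_one_iff _).1 this

theorem regAt_succ {G : Type u} [Group G] [Finite G] {p : ℕ} [Fact p.Prime]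
    (h1 : RegAt p 1 G) (n : ℕ) (hn : RegAt p n G) : RegAt p (n + 1) G := by
  refine ⟨h1.1, ?_⟩
  intro a b
  obtain ⟨L, hL⟩ : ∃ L : Subgroup G, L = Subgroup.closure ({a, b} : Set G) := ⟨_, rfl⟩
  rw [← hL]
  obtain ⟨c', hc', hab⟩ := hn.2 a b
  rw [← hL] at hc'
  obtain ⟨c, hcK, rfl⟩ := regAt_powerClosure hn ⁅L, L⁆ c' hc'
  have haL : a ∈ L := hL ▸ Subgroup.subset_closure (by simp)
  have hbL : b ∈ L := hL ▸ Subgroup.subset_closure (by simp)
  have hKL : ⁅L, L⁆ ≤ L :=
    Subgroup.commutator_le.2 fun x hx y hy =>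
      L.mul_mem (L.mul_mem (L.mul_mem hx hy) (L.inv_mem hx)) (L.inv_mem hy)
  have hcL : c ∈ L := hKL hcK
  obtain ⟨d', hd', hxy⟩ := h1.2 (a ^ p ^ n) (b ^ p ^ n * c ^ p ^ n)
  obtain ⟨e', he', hbc⟩ := h1.2 (b ^ p ^ n) (c ^ p ^ n)
  have key : ∀ u v : G, u ∈ Cfsg.powerClosure p n L → v ∈ Cfsg.powerClosure p n L →
      Cfsg.powerClosure p 1
        ⁅Subgroup.closure ({u, v} : Set G), Subgroup.closure ({u, v} : Set G)⁆ ≤
      Cfsg.powerClosure p (n + 1) ⁅L, L⁆ := by
    intro u v hu hv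
    have hle : Subgroup.closure ({u, v} : Set G) ≤ Cfsg.powerClosure p n L := by
      rw [Subgroup.closure_le]
      rintro z (rfl | rfl)
      · exact hu
      · exact hv
    have h2 : ⁅Subgroup.closure ({u, v} : Set G), Subgroup.closure ({u, v} : Set G)⁆ ≤
        Cfsg.powerClosure p n ⁅L, L⁆ :=
      (Subgroup.commutator_mono hle hle).trans (regAt_comm_powerClosure hn L)
    intro y hy
    have hy' : y ∈ Subgroup.closure {y : G | ∃ x ∈
        ⁅Subgroup.closure ({u, v} : Set G), Subgroup.closure ({u, v} : Set G)⁆,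
        y = x ^ (p ^ 1)} := hy
    refine (Subgroup.closure_le _).2 ?_ hy'
    rintro y ⟨z, hz, rfl⟩
    obtain ⟨f, hf, rfl⟩ := regAt_powerClosure hn ⁅L, L⁆ z (h2 hz)
    apply Subgroup.subset_closure
    exact ⟨f, hf, by rw [← pow_mul, pow_one, pow_succ]⟩
  have hu1 : a ^ p ^ n ∈ Cfsg.powerClosure p n L := Subgroup.subset_closure ⟨a, haL, rfl⟩
  have hu2 : b ^ p ^ n ∈ Cfsg.powerClosure p n L := Subgroup.subset_closure ⟨b, hbL, rfl⟩
  have hu3 : c ^ p ^ n ∈ Cfsg.powerClosure p n L := Subgroup.subset_closure ⟨c, hcL, rfl⟩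
  refine ⟨c ^ p ^ (n + 1) * e' * d', ?_, ?_⟩
  · refine Subgroup.mul_mem _ (Subgroup.mul_mem _ (Subgroup.subset_closure ⟨c, hcK, rfl⟩) ?_) ?_
    · exact key _ _ hu2 hu3 he'
    · exact key _ _ hu1 (Subgroup.mul_mem _ hu2 hu3) hd'
  · calc (a * b) ^ p ^ (n + 1) = ((a * b) ^ p ^ n) ^ p ^ 1 := by rw [← pow_mul, pow_succ, pow_one]
      _ = (a ^ p ^ n * (b ^ p ^ n * c ^ p ^ n)) ^ p ^ 1 := by rw [hab, mul_assoc]
      _ = (a ^ p ^ n) ^ p ^ 1 * (b ^ p ^ n * c ^ p ^ n) ^ p ^ 1 * d' := hxy
      _ = (a ^ p ^ n) ^ p ^ 1 * ((b ^ p ^ n) ^ p ^ 1 * (c ^ p ^ n) ^ p ^ 1 * e') * d' := by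
          rw [hbc]
      _ = a ^ p ^ (n + 1) * b ^ p ^ (n + 1) * (c ^ p ^ (n + 1) * e' * d') := by
          simp only [pow_one, ← pow_mul, ← pow_succ, mul_assoc]

theorem regAt_all {G : Type u} [Group G] [Finite G] {p : ℕ} [Fact p.Prime]
    (h1 : RegAt p 1 G) : ∀ n : ℕ, RegAt p n G := by
  intro n
  induction n with
  | zero =>
    refine ⟨h1.1, fun a b => ⟨1, Subgroup.one_mem _, by simp⟩⟩
  | succ n ih => exact regAt_succ h1 n ih

end Cfsg.Agent.Helper29
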