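import Mathlib
import Cfsg.Prelude.Def_PLocal
import Cfsg.Agent.Helper29.PolySeq
import Cfsg.Agent.Helper29.Regular2

/-!
A finite `p`-group of nilpotency class less than `p` is regular.
-/

namespace Cfsg.Agent.Helper29

open scoped commutatorElement

universe u

lemma three_subgroups_normal {G : Type*} [Group G] (A B C N : Subgroup G) [N.Normal]
    (h1 : ⁅⁅B, C⁆, A⁆ ≤ N) (h2 : ⁅⁅C, A⁆, B⁆ ≤ N) : ⁅⁅A, B⁆, C⁆ ≤ N := by
  have key : ∀ X : Subgroup G, X ≤ N ↔ X.map (QuotientGroup.mk' N) = ⊥ := by
    intro X
    rw [Subgroup.map_eq_bot_iff, QuotientGroup.ker_mk']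
  rw [key] at h1 h2 ⊢
  simp only [Subgroup.map_commutator] at h1 h2 ⊢
  exact Subgroup.commutator_commutator_eq_bot_of_rotate h1 h2

lemma lcs_comm_le (G : Type*) [Group G] : ∀ j i : ℕ,
    ⁅(⊤ : Subgroup G).lowerCentralSeries i, (⊤ : Subgroup G).lowerCentralSeries j⁆ ≤
      (⊤ : Subgroup G).lowerCentralSeries (i + j + 1) := by
  intro j
  induction j with
  | zero =>
    intro i
    exact le_of_eq rfl
  | succ j ih =>
    intro i
    rw [Subgroup.lowerCentralSeries_succ, Subgroup.commutator_comm]
    apply three_subgroups_normal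
    · rw [Subgroup.commutator_comm ⊤, ← Subgroup.lowerCentralSeries_succ]
      have := ih (i + 1)
      have e : i + 1 + j + 1 = i + (j + 1) + 1 := by omega
      rw [e] at this
      exact this
    · have := Subgroup.commutator_mono (ih i) (le_refl (⊤ : Subgroup G))
      rw [← Subgroup.lowerCentralSeries_succ] at this
      exact this

/-- the lower central series as a filtration with `Γ 0 = Γ 1 = ⊤` -/
def lcsFilt (G : Type*) [Group G] : ℕ → Subgroup G
  | 0 => ⊤
  | (m + 1) => (⊤ : Subgroup G).lowerCentralSeries m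

lemma lcsFilt_normal (G : Type*) [Group G] (n : ℕ) : (lcsFilt G n).Normal := by
  cases n with
  | zero => exact Subgroup.normal_top
  | succ n => exact Subgroup.lowerCentralSeries_normal ⊤ n

lemma lcsFilt_pfilt (G : Type*) [Group G] : PFilt (lcsFilt G) := by
  constructor
  · intro a b hab
    cases a with
    | zero => exact le_top
    | succ a =>
      cases b with
      | zero => omega
      | succ b => exact Subgroup.lowerCentralSeries_antitone _ (by omega)
  · intro a b
    cases a with
    | zero =>
      rw [zero_add]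
      have := lcsFilt_normal G b
      exact Subgroup.commutator_le_right _ _
    | succ a =>
      cases b with
      | zero =>
        have := lcsFilt_normal G (a + 1)
        exact Subgroup.commutator_le_left _ _
      | succ b =>
        have h := lcs_comm_le G b a
        have e : a + 1 + (b + 1) = (a + b + 1) + 1 := by omega
        rw [e]
        exact h

theorem pow_mul_of_class_lt {G : Type*} [Group G] {p : ℕ} (hp : p.Prime)
    (hcl : (⊤ : Subgroup G).lowerCentralSeries (p - 1) = ⊥)
    (hexp : ∀ x ∈ commutator G, x ^ p = 1) (a b : G) : (a * b) ^ p = a ^ p * b ^ p := by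
  apply pow_mul_of_filt (lcsFilt_pfilt G) rfl hp
  · intro x hx
    exact hexp x hx
  · obtain ⟨m, rfl⟩ : ∃ m, p = m + 1 := ⟨p - 1, by have := hp.pos; omega⟩
    exact hcl

lemma class_subgroup {G : Type*} [Group G] (H : Subgroup G) (n : ℕ)
    (h : (⊤ : Subgroup G).lowerCentralSeries n = ⊥) :
    (⊤ : Subgroup H).lowerCentralSeries n = ⊥ := by
  have h1 := Subgroup.top_subtype_lowerCentralSeries H n
  have h2 : H.lowerCentralSeries n ≤ (⊤ : Subgroup G).lowerCentralSeries n :=
    Subgroup.lowerCentralSeries_mono n le_top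
  rw [h, le_bot_iff] at h2
  rw [h2] at h1
  exact (Subgroup.map_eq_bot_iff_of_injective _ H.subtype_injective).1 h1

theorem regAt_one_of_class_lt (p : ℕ) [Fact p.Prime] :
    ∀ n : ℕ, ∀ (G : Type u) [Group G] [Finite G],
    Nat.card G ≤ n → IsPGroup p G → (⊤ : Subgroup G).lowerCentralSeries (p - 1) = ⊥ →
    RegAt p 1 G := by
  have hp : p.Prime := Fact.out
  intro n
  induction n with
  | zero =>
    intro G _ _ hcard
    exact absurd hcard (by have := Nat.card_pos (α := G); omega)
  | succ n ih =>
    intro G _ _ hcard hG hcl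
    refine ⟨hG, ?_⟩
    intro a b
    obtain ⟨L, hL⟩ : ∃ L : Subgroup G, L = Subgroup.closure ({a, b} : Set G) := ⟨_, rfl⟩
    have haL : a ∈ L := hL ▸ Subgroup.subset_closure (by simp)
    have hbL : b ∈ L := hL ▸ Subgroup.subset_closure (by simp)
    have hLp : IsPGroup p L := hG.to_subgroup L
    have hLcl : (⊤ : Subgroup L).lowerCentralSeries (p - 1) = ⊥ := class_subgroup L _ hcl
    have key : ∃ x : L, x ∈ ⁅(⊤ : Subgroup L), (⊤ : Subgroup L)⁆ ∧
        ((⟨a, haL⟩ : L) * ⟨b, hbL⟩) ^ p = (⟨a, haL⟩ : L) ^ p * (⟨b, hbL⟩ : L) ^ p * x ^ p := by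
      by_cases hcomm : ∀ x y : L, x * y = y * x
      · exact ⟨1, one_mem _, by rw [Commute.mul_pow (hcomm _ _)]; simp⟩
      · obtain ⟨K, hK⟩ : ∃ K : Subgroup L, K = ⁅(⊤ : Subgroup L), (⊤ : Subgroup L)⁆ := ⟨_, rfl⟩
        have hKn : K.Normal := by
          rw [hK]
          infer_instance
        have hKne : K ≠ ⊤ := by
          obtain ⟨M, _, hMne, _, hKM⟩ := reg_proper_normal' hLp (1 : L) (by
            intro htop
            apply hcomm
            intro x y
            have hx : x ∈ Subgroup.zpowers (1 : L) := by rw [htop]; exact Subgroup.mem_top x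
            have hy : y ∈ Subgroup.zpowers (1 : L) := by rw [htop]; exact Subgroup.mem_top y
            obtain ⟨i, rfl⟩ := hx
            obtain ⟨j, rfl⟩ := hy
            simp)
          intro hKtop
          apply hMne
          rw [← hK, hKtop] at hKM
          exact top_le_iff.1 hKM
        have hKlt : Nat.card K ≤ n := by
          have h1 : Nat.card K ≤ Nat.card L := Subgroup.card_le_card_group K
          have h2 : Nat.card K ≠ Nat.card L := fun h => hKne (Subgroup.eq_top_of_card_eq K h)
          have h3 : Nat.card L ≤ Nat.card G := Subgroup.card_le_card_group L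
          omega
        have hKreg : RegAt p 1 K := ih K hKlt (hLp.to_subgroup K) (class_subgroup K _ hLcl)
        have hpow : ∀ c ∈ Cfsg.powerClosure p 1 K, ∃ x ∈ K, c = x ^ p ^ 1 := by
          intro c hc
          have hmap : (Cfsg.powerClosure p 1 (⊤ : Subgroup K)).map K.subtype =
              Cfsg.powerClosure p 1 K := by
            rw [reg_map_powerClosure, ← MonoidHom.range_eq_map, Subgroup.range_subtype]
          rw [← hmap] at hc
          obtain ⟨c', hc', rfl⟩ := hc
          obtain ⟨x, _, rfl⟩ := regAt_powerClosure hKreg ⊤ c' hc'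
          exact ⟨x, x.2, by simp⟩
        obtain ⟨N, hN⟩ : ∃ N : Subgroup L, N = Cfsg.powerClosure p 1 K := ⟨_, rfl⟩
        have hNn : N.Normal := by
          rw [hN]
          exact reg_powerClosure_normal p 1 K
        have hQcl : (⊤ : Subgroup (L ⧸ N)).lowerCentralSeries (p - 1) = ⊥ := by
          have h1 := Subgroup.map_lowerCentralSeries (⊤ : Subgroup L) (QuotientGroup.mk' N) (p - 1)
          rw [hLcl, Subgroup.map_bot, ← MonoidHom.range_eq_map,
            MonoidHom.range_eq_top.2 (QuotientGroup.mk'_surjective N)] at h1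
          exact h1.symm
        have hQexp : ∀ x ∈ commutator (L ⧸ N), x ^ p = 1 := by
          intro x hx
          have h1 : commutator (L ⧸ N) = K.map (QuotientGroup.mk' N) := by
            rw [hK, Subgroup.map_commutator, ← MonoidHom.range_eq_map,
              MonoidHom.range_eq_top.2 (QuotientGroup.mk'_surjective N), commutator_def]
          rw [h1] at hx
          obtain ⟨k, hk, rfl⟩ := hx
          rw [← map_pow]
          apply (QuotientGroup.eq_one_iff _).2
          rw [hN]
          exact Subgroup.subset_closure ⟨k, hk, by simp⟩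
        have hQ := pow_mul_of_class_lt hp hQcl hQexp (QuotientGroup.mk' N ⟨a, haL⟩)
          (QuotientGroup.mk' N ⟨b, hbL⟩)
        have hmem : ((⟨a, haL⟩ : L) ^ p * (⟨b, hbL⟩ : L) ^ p)⁻¹ *
            ((⟨a, haL⟩ : L) * ⟨b, hbL⟩) ^ p ∈ N := by
          have h2 : QuotientGroup.mk' N (((⟨a, haL⟩ : L) ^ p * (⟨b, hbL⟩ : L) ^ p)⁻¹ *
              ((⟨a, haL⟩ : L) * ⟨b, hbL⟩) ^ p) = 1 := by
            simp only [map_mul, map_inv, map_pow]
            rw [hQ]
            simp
          exact (QuotientGroup.eq_one_iff _).1 h2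
        rw [hN] at hmem
        obtain ⟨x, hx, hxe⟩ := hpow _ hmem
        refine ⟨x, hK ▸ hx, ?_⟩
        rw [pow_one] at hxe
        rw [← hxe]
        group
    obtain ⟨x, hx, hxe⟩ := key
    refine ⟨(x : G) ^ p ^ 1, ?_, ?_⟩
    · apply Subgroup.subset_closure
      refine ⟨(x : G), ?_, rfl⟩
      rw [← hL]
      have h1 : (⁅(⊤ : Subgroup L), (⊤ : Subgroup L)⁆).map L.subtype = ⁅L, L⁆ := by
        rw [Subgroup.map_commutator, ← MonoidHom.range_eq_map, Subgroup.range_subtype]
      rw [← h1]
      exact ⟨x, hx, rfl⟩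
    · have := congrArg Subtype.val hxe
      simpa using this

theorem regular_of_class_lt {G : Type u} [Group G] [Finite G] {p : ℕ} [Fact p.Prime]
    (hG : IsPGroup p G) (hcl : (⊤ : Subgroup G).lowerCentralSeries (p - 1) = ⊥) :
    Cfsg.IsRegularPGroup p G := by
  have h1 := regAt_one_of_class_lt p (Nat.card G) G le_rfl hG hcl
  exact ⟨hG, fun a b n => (regAt_all h1 n).2 a b⟩

end Cfsg.Agent.Helper29
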