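import Mathlib

set_option autoImplicit false

namespace Cfsg.Agent.Helper29

/-- Transfer of maximality along an injective homomorphism: the image of a maximal subgroup is
maximal in the range. -/
theorem isCoatom_map_range {A B : Type*} [Group A] [Group B] (φ : A →* B)
    (hφ : Function.Injective φ) (X : Subgroup A) (hX : IsCoatom X) :
    IsCoatom ((X.map φ).subgroupOf φ.range) := by
  have h1 : IsCoatom (X.map (MonoidHom.ofInjective hφ).toMonoidHom) :=
    (OrderIso.isCoatom_iff (MulEquiv.mapSubgroup (MonoidHom.ofInjective hφ)) X).mpr hX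
  convert h1 using 1
  ext ⟨y, hy⟩
  simp only [Subgroup.mem_subgroupOf, Subgroup.mem_map]
  constructor
  · rintro ⟨x, hx, hxy⟩
    exact ⟨x, hx, Subtype.ext hxy⟩
  · rintro ⟨x, hx, hxy⟩
    exact ⟨x, hx, congrArg Subtype.val hxy⟩

/-- If `H < L < K` then `H` is not maximal in `K`. -/
theorem not_isCoatom_subgroupOf_of_lt_of_lt {G : Type*} [Group G] {H L K : Subgroup G}
    (hHL : H < L) (hLK : L < K) : ¬ IsCoatom (H.subgroupOf K) := by
  intro hc
  have h1 : H.subgroupOf K < L.subgroupOf K := by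
    refine lt_of_le_of_ne (fun x hx => hHL.le hx) ?_
    intro heq
    obtain ⟨l, hl, hlH⟩ := SetLike.exists_of_lt hHL
    have h3 : (⟨l, hLK.le hl⟩ : K) ∈ L.subgroupOf K := hl
    rw [← heq] at h3
    exact hlH h3
  have h2 : K ≤ L := Subgroup.subgroupOf_eq_top.mp (hc.2 _ h1)
  exact absurd (lt_of_lt_of_le hLK h2) (lt_irrefl _)

end Cfsg.Agent.Helper29
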