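import Mathlib
import Cfsg.Agent.Helper4.Dih

/-!
Thompson's dihedral lemma: common eigenvectors of commuting involutions acting on sections of
odd order, self-centralizing abelian normal subgroups of nilpotent groups, dual bases.
-/

namespace Cfsg.Agent.Helper29

open scoped commutatorElement

/-- `S / M` is an abelian section "of odd order". -/
structure DihHyp {G : Type*} [Group G] (S M : Subgroup G) : Prop where
  le : M ≤ S
  norm : ∀ s ∈ S, ∀ m ∈ M, s * m * s⁻¹ ∈ M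
  comm : ∀ s ∈ S, ∀ t ∈ S, s * t * s⁻¹ * t⁻¹ ∈ M
  odd : ∀ s ∈ S, s * s ∈ M → s ∈ M

/-- `a` is an involution normalizing `S` and `M`. -/
structure DihAct {G : Type*} [Group G] (S M : Subgroup G) (a : G) : Prop where
  sq : a * a = 1
  S : ∀ s ∈ S, a * s * a⁻¹ ∈ S
  M : ∀ m ∈ M, a * m * a⁻¹ ∈ M

lemma DihHyp.mono {G : Type*} [Group G] {S S' M : Subgroup G} (h : DihHyp S M) (h1 : M ≤ S')
    (h2 : S' ≤ S) : DihHyp S' M :=
  ⟨h1, fun s hs m hm => h.norm s (h2 hs) m hm, fun s hs t ht => h.comm s (h2 hs) t (h2 ht),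
    fun s hs hss => h.odd s (h2 hs) hss⟩

lemma dih_odd_of_card {G : Type*} [Group G] (S M : Subgroup G) [Finite S]
    (hodd : Odd (Nat.card S)) : ∀ s ∈ S, s * s ∈ M → s ∈ M := by
  intro s hs hss
  have h1 : orderOf s ∣ Nat.card S := by
    have := orderOf_dvd_natCard (⟨s, hs⟩ : S)
    rwa [Subgroup.orderOf_mk] at this
  have h2 : Odd (orderOf s) := Odd.of_dvd_nat hodd h1
  obtain ⟨k, hk⟩ := h2
  have h3 : s = (s * s) ^ (k + 1) := by
    rw [← pow_two, ← pow_mul, show 2 * (k + 1) = (2 * k + 1) + 1 by ring, ← hk, pow_succ,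
      pow_orderOf_eq_one, one_mul]
  rw [h3]
  exact pow_mem hss _

/-- the part of `S` centralized by `a` modulo `M` -/
def dihPlus {G : Type*} [Group G] (S M : Subgroup G) (h : DihHyp S M) (a : G) : Subgroup G where
  carrier := {s | s ∈ S ∧ a * s * a⁻¹ * s⁻¹ ∈ M}
  one_mem' := ⟨one_mem S, by simp⟩
  mul_mem' := by
    rintro s t ⟨hs, hs'⟩ ⟨ht, ht'⟩
    refine ⟨mul_mem hs ht, ?_⟩
    have e : a * (s * t) * a⁻¹ * (s * t)⁻¹ = (a * s * a⁻¹ * s⁻¹) * (s * (a * t * a⁻¹ * t⁻¹) * s⁻¹) := by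
      group
    rw [e]
    exact mul_mem hs' (h.norm s hs _ ht')
  inv_mem' := by
    rintro s ⟨hs, hs'⟩
    refine ⟨inv_mem hs, ?_⟩
    have e : a * s⁻¹ * a⁻¹ * s⁻¹⁻¹ = s⁻¹ * (a * s * a⁻¹ * s⁻¹)⁻¹ * s⁻¹⁻¹ := by group
    rw [e]
    exact h.norm s⁻¹ (inv_mem hs) _ (inv_mem hs')

/-- the part of `S` inverted by `a` modulo `M` -/
def dihMinus {G : Type*} [Group G] (S M : Subgroup G) (h : DihHyp S M) (a : G) : Subgroup G where
  carrier := {s | s ∈ S ∧ a * s * a⁻¹ * s ∈ M}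
  one_mem' := ⟨one_mem S, by simp⟩
  mul_mem' := by
    rintro s t ⟨hs, hs'⟩ ⟨ht, ht'⟩
    refine ⟨mul_mem hs ht, ?_⟩
    have e : a * (s * t) * a⁻¹ * (s * t) = (a * s * a⁻¹ * s) * (s⁻¹ * (a * t * a⁻¹ * t) * s⁻¹⁻¹) *
        (s⁻¹ * t⁻¹ * s⁻¹⁻¹ * t⁻¹⁻¹) := by
      group
    rw [e]
    exact mul_mem (mul_mem hs' (h.norm s⁻¹ (inv_mem hs) _ ht'))
      (h.comm s⁻¹ (inv_mem hs) t⁻¹ (inv_mem ht))
  inv_mem' := by
    rintro s ⟨hs, hs'⟩
    refine ⟨inv_mem hs, ?_⟩
    have e : a * s⁻¹ * a⁻¹ * s⁻¹ = (s * (a * s * a⁻¹ * s) * s⁻¹)⁻¹ := by group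
    rw [e]
    exact inv_mem (h.norm s hs _ hs')

lemma mem_dihPlus {G : Type*} [Group G] (S M : Subgroup G) (h : DihHyp S M) (a s : G) :
    s ∈ dihPlus S M h a ↔ s ∈ S ∧ a * s * a⁻¹ * s⁻¹ ∈ M := Iff.rfl

lemma mem_dihMinus {G : Type*} [Group G] (S M : Subgroup G) (h : DihHyp S M) (a s : G) :
    s ∈ dihMinus S M h a ↔ s ∈ S ∧ a * s * a⁻¹ * s ∈ M := Iff.rfl

lemma dihPlus_le {G : Type*} [Group G] (S M : Subgroup G) (h : DihHyp S M) (a : G) :
    dihPlus S M h a ≤ S := fun _ hs => hs.1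

lemma dihMinus_le {G : Type*} [Group G] (S M : Subgroup G) (h : DihHyp S M) (a : G) :
    dihMinus S M h a ≤ S := fun _ hs => hs.1

lemma le_dihPlus {G : Type*} [Group G] (S M : Subgroup G) (h : DihHyp S M) (a : G)
    (ha : DihAct S M a) : M ≤ dihPlus S M h a :=
  fun m hm => ⟨h.le hm, mul_mem (ha.M m hm) (inv_mem hm)⟩

lemma le_dihMinus {G : Type*} [Group G] (S M : Subgroup G) (h : DihHyp S M) (a : G)
    (ha : DihAct S M a) : M ≤ dihMinus S M h a :=
  fun m hm => ⟨h.le hm, mul_mem (ha.M m hm) hm⟩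

lemma dih_conj_comm {G : Type*} [Group G] (a b s : G) (hab : a * b = b * a) :
    a * (b * s * b⁻¹) * a⁻¹ = b * (a * s * a⁻¹) * b⁻¹ := by
  have e2 : b⁻¹ * a⁻¹ = a⁻¹ * b⁻¹ := by rw [← mul_inv_rev, ← mul_inv_rev, hab]
  calc a * (b * s * b⁻¹) * a⁻¹ = (a * b) * s * (b⁻¹ * a⁻¹) := by group
    _ = (b * a) * s * (a⁻¹ * b⁻¹) := by rw [hab, e2]
    _ = b * (a * s * a⁻¹) * b⁻¹ := by group

lemma dihAct_plus {G : Type*} [Group G] (S M : Subgroup G) (h : DihHyp S M) (a b : G)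
    (hb : DihAct S M b) (hab : a * b = b * a) : DihAct (dihPlus S M h a) M b := by
  refine ⟨hb.sq, ?_, hb.M⟩
  rintro s ⟨hs, hs'⟩
  refine ⟨hb.S s hs, ?_⟩
  have e : a * (b * s * b⁻¹) * a⁻¹ * (b * s * b⁻¹)⁻¹ = b * (a * s * a⁻¹ * s⁻¹) * b⁻¹ := by
    rw [dih_conj_comm a b s hab]; group
  rw [e]
  exact hb.M _ hs'

lemma dihAct_minus {G : Type*} [Group G] (S M : Subgroup G) (h : DihHyp S M) (a b : G)
    (hb : DihAct S M b) (hab : a * b = b * a) : DihAct (dihMinus S M h a) M b := by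
  refine ⟨hb.sq, ?_, hb.M⟩
  rintro s ⟨hs, hs'⟩
  refine ⟨hb.S s hs, ?_⟩
  have e : a * (b * s * b⁻¹) * a⁻¹ * (b * s * b⁻¹) = b * (a * s * a⁻¹ * s) * b⁻¹ := by
    rw [dih_conj_comm a b s hab]; group
  rw [e]
  exact hb.M _ hs'

/-- if `a` does not centralize `S` modulo `M`, the inverted part is strictly bigger than `M` -/
lemma dih_lt_minus {G : Type*} [Group G] (S M : Subgroup G) (h : DihHyp S M) (a : G)
    (ha : DihAct S M a) (s : G) (hs : s ∈ S) (hsa : a * s * a⁻¹ * s⁻¹ ∉ M) :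
    M < dihMinus S M h a := by
  refine lt_of_le_of_ne (le_dihMinus S M h a ha) ?_
  intro heq
  apply hsa
  have hai : a⁻¹ = a := inv_eq_of_mul_eq_one_left ha.sq
  have ht : a * (a * s * a⁻¹) * a⁻¹ = s := by
    calc a * (a * s * a⁻¹) * a⁻¹ = (a * a) * s * (a * a)⁻¹ := by group
      _ = s := by rw [ha.sq]; group
  have hw : s * (a * s * a⁻¹)⁻¹ ∈ dihMinus S M h a := by
    refine ⟨mul_mem hs (inv_mem (ha.S s hs)), ?_⟩
    have e : a * (s * (a * s * a⁻¹)⁻¹) * a⁻¹ * (s * (a * s * a⁻¹)⁻¹) =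
        (a * s * a⁻¹) * (a * (a * s * a⁻¹) * a⁻¹)⁻¹ * s * (a * s * a⁻¹)⁻¹ := by group
    rw [e, ht]
    have e2 : a * s * a⁻¹ * s⁻¹ * s * (a * s * a⁻¹)⁻¹ = 1 := by group
    rw [e2]
    exact one_mem M
  rw [← heq] at hw
  have e3 : a * s * a⁻¹ * s⁻¹ = (s * (a * s * a⁻¹)⁻¹)⁻¹ := by group
  rw [e3]
  exact inv_mem hw

/-- the section splits: one of the two parts is strictly bigger than `M` -/
lemma dih_split {G : Type*} [Group G] (S M : Subgroup G) (h : DihHyp S M) (a : G)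
    (ha : DihAct S M a) (hlt : M < S) : M < dihPlus S M h a ∨ M < dihMinus S M h a := by
  by_contra hcon
  push Not at hcon
  obtain ⟨h1, h2⟩ := hcon
  have hp : dihPlus S M h a = M := by
    by_contra hne
    exact h1 (lt_of_le_of_ne (le_dihPlus S M h a ha) (Ne.symm hne))
  obtain ⟨s, hs, hsM⟩ := SetLike.exists_of_lt hlt
  apply h2
  apply dih_lt_minus S M h a ha s hs
  intro hmem
  apply hsM
  have : s ∈ dihPlus S M h a := ⟨hs, hmem⟩
  rwa [hp] at this

/-- **common eigenvector** modulo `M` for a list of commuting involutions -/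
lemma dih_eigen {G : Type*} [Group G] (M : Subgroup G) (T : List G) :
    ∀ S : Subgroup G, DihHyp S M → (∀ a ∈ T, DihAct S M a) →
      (∀ a ∈ T, ∀ b ∈ T, a * b = b * a) → M < S →
      ∃ x ∈ S, x ∉ M ∧ ∀ a ∈ T, a * x * a⁻¹ * x⁻¹ ∈ M ∨ a * x * a⁻¹ * x ∈ M := by
  induction T with
  | nil =>
    intro S _ _ _ hlt
    obtain ⟨s, hs, hsM⟩ := SetLike.exists_of_lt hlt
    exact ⟨s, hs, hsM, by simp⟩
  | cons a T ih =>
    intro S h hact hcomm hlt
    have ha := hact a (by simp)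
    rcases dih_split S M h a ha hlt with hp | hm
    · obtain ⟨x, hx, hxM, hxT⟩ := ih (dihPlus S M h a)
        (h.mono (le_dihPlus S M h a ha) (dihPlus_le S M h a))
        (fun b hb => dihAct_plus S M h a b (hact b (by simp [hb]))
          (hcomm a (by simp) b (by simp [hb])))
        (fun b hb c hc => hcomm b (by simp [hb]) c (by simp [hc])) hp
      refine ⟨x, hx.1, hxM, ?_⟩
      intro b hb
      rcases List.mem_cons.1 hb with rfl | hb'
      · left; exact hx.2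
      · exact hxT b hb'
    · obtain ⟨x, hx, hxM, hxT⟩ := ih (dihMinus S M h a)
        (h.mono (le_dihMinus S M h a ha) (dihMinus_le S M h a))
        (fun b hb => dihAct_minus S M h a b (hact b (by simp [hb]))
          (hcomm a (by simp) b (by simp [hb])))
        (fun b hb c hc => hcomm b (by simp [hb]) c (by simp [hc])) hm
      refine ⟨x, hx.1, hxM, ?_⟩
      intro b hb
      rcases List.mem_cons.1 hb with rfl | hb'
      · right; exact hx.2
      · exact hxT b hb'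


/-- an involution centralizing a self-centralizing normal subgroup `N` of an odd-order group `H`
which it normalizes centralizes `H` -/
lemma dih_centralize {G : Type*} [Group G] (H N : Subgroup G)
    (hNH : ∀ h ∈ H, ∀ n ∈ N, h * n * h⁻¹ ∈ N)
    (hC : ∀ h ∈ H, (∀ n ∈ N, h * n = n * h) → h ∈ N)
    (hodd : ∀ h ∈ H, h * h = 1 → h = 1)
    (a : G) (ha2 : a * a = 1) (haH : ∀ h ∈ H, a * h * a⁻¹ ∈ H)
    (haN : ∀ n ∈ N, a * n * a⁻¹ = n) : ∀ h ∈ H, a * h * a⁻¹ = h := by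
  intro x hx
  obtain ⟨t, ht⟩ : ∃ t, t = a * x * a⁻¹ := ⟨_, rfl⟩
  have htH : t ∈ H := by rw [ht]; exact haH x hx
  have hc : x⁻¹ * t ∈ N := by
    apply hC _ (mul_mem (inv_mem hx) htH)
    intro n hn
    have h1 : a * (x * n * x⁻¹) * a⁻¹ = x * n * x⁻¹ := haN _ (hNH x hx n hn)
    have h2 : a * n * a⁻¹ = n := haN n hn
    have h2' : a⁻¹ * n * a = n := by
      calc a⁻¹ * n * a = a⁻¹ * (a * n * a⁻¹) * a := by rw [h2]
        _ = n := by group
    have h3 : t * n * t⁻¹ = x * n * x⁻¹ := by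
      calc t * n * t⁻¹ = a * (x * (a⁻¹ * n * a) * x⁻¹) * a⁻¹ := by rw [ht]; group
        _ = x * n * x⁻¹ := by rw [h2', h1]
    calc x⁻¹ * t * n = x⁻¹ * (t * n * t⁻¹) * t := by group
      _ = n * (x⁻¹ * t) := by rw [h3]; group
  have h4 : a * (x⁻¹ * t) * a⁻¹ = x⁻¹ * t := haN _ hc
  have h5 : a * (x⁻¹ * t) * a⁻¹ = t⁻¹ * x := by
    have ht' : a * t * a⁻¹ = x := by
      calc a * t * a⁻¹ = (a * a) * x * (a * a)⁻¹ := by rw [ht]; group
        _ = x := by rw [ha2]; group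
    calc a * (x⁻¹ * t) * a⁻¹ = (a * x * a⁻¹)⁻¹ * (a * t * a⁻¹) := by group
      _ = t⁻¹ * x := by rw [ht', ← ht]
  have h6 : (x⁻¹ * t) * (x⁻¹ * t) = 1 := by
    have : x⁻¹ * t = t⁻¹ * x := by rw [← h4, h5]
    calc (x⁻¹ * t) * (x⁻¹ * t) = (t⁻¹ * x) * (x⁻¹ * t) := by rw [← this]
      _ = 1 := by group
  have h7 := hodd _ (mul_mem (inv_mem hx) htH) h6
  rw [← ht]
  exact (inv_mul_eq_one.1 h7).symm

lemma dih_sup_conj {G : Type*} [Group G] (M' M : Subgroup G) (x g : G)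
    (hM : ∀ m ∈ M, g * m * g⁻¹ ∈ M') (hx : g * x * g⁻¹ ∈ M') :
    ∀ u ∈ M ⊔ Subgroup.zpowers x, g * u * g⁻¹ ∈ M' := by
  have h : M ⊔ Subgroup.zpowers x ≤ M'.comap (MulAut.conj g).toMonoidHom := by
    refine sup_le (fun m hm => ?_) ?_
    · rw [Subgroup.mem_comap]; exact hM m hm
    · rw [Subgroup.zpowers_le, Subgroup.mem_comap]; exact hx
  intro u hu
  exact Subgroup.mem_comap.1 (h hu)

lemma dih_list {G : Type*} [Finite G] (A : Set G) : ∃ T : List G, ∀ a, a ∈ T ↔ a ∈ A := by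
  classical
  exact ⟨(Set.toFinite A).toFinset.toList, fun a => by simp⟩

/-- a maximal invariant abelian normal subgroup of a nilpotent group of odd order
is self-centralizing -/
lemma dih_max_abelian {G : Type*} [Group G] [Finite G] (F A : Subgroup G)
    (hFnil : Group.IsNilpotent F) (hFodd : Odd (Nat.card F))
    (hA2 : ∀ a ∈ A, a * a = 1) (hAc : ∀ a ∈ A, ∀ b ∈ A, a * b = b * a)
    (hAF : ∀ a ∈ A, ∀ f ∈ F, a * f * a⁻¹ ∈ F) :
    ∃ M : Subgroup G, M ≤ F ∧ (∀ x ∈ M, ∀ y ∈ M, x * y = y * x) ∧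
      (∀ f ∈ F, ∀ m ∈ M, f * m * f⁻¹ ∈ M) ∧ (∀ a ∈ A, ∀ m ∈ M, a * m * a⁻¹ ∈ M) ∧
      (∀ f ∈ F, (∀ m ∈ M, f * m = m * f) → f ∈ M) := by
  classical
  obtain ⟨M, -, hMmax⟩ := Finite.exists_le_maximal
    (p := fun M : Subgroup G => M ≤ F ∧ (∀ x ∈ M, ∀ y ∈ M, x * y = y * x) ∧
      (∀ f ∈ F, ∀ m ∈ M, f * m * f⁻¹ ∈ M) ∧ (∀ a ∈ A, ∀ m ∈ M, a * m * a⁻¹ ∈ M)) (a := ⊥)
    ⟨bot_le, by
      intro x hx y hy
      rw [Subgroup.mem_bot] at hx hy
      rw [hx, hy], by
      intro f _ m hm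
      rw [Subgroup.mem_bot] at hm ⊢
      rw [hm]; group, by
      intro a _ m hm
      rw [Subgroup.mem_bot] at hm ⊢
      rw [hm]; group⟩
  obtain ⟨hMF, hMab, hMnF, hMnA⟩ := hMmax.prop
  refine ⟨M, hMF, hMab, hMnF, hMnA, ?_⟩
  by_contra hcon
  push Not at hcon
  obtain ⟨f0, hf0F, hf0c, hf0M⟩ := hcon
  obtain ⟨C, hC⟩ : ∃ C : Subgroup G, C = F ⊓ Subgroup.centralizer (M : Set G) := ⟨_, rfl⟩
  have hCmem : ∀ c, c ∈ C ↔ c ∈ F ∧ ∀ m ∈ M, c * m = m * c := by
    intro c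
    rw [hC, Subgroup.mem_inf, Subgroup.mem_centralizer_iff]
    constructor
    · rintro ⟨h1, h2⟩; exact ⟨h1, fun m hm => (h2 m hm).symm⟩
    · rintro ⟨h1, h2⟩; exact ⟨h1, fun m hm => (h2 m hm).symm⟩
  have hCF : C ≤ F := fun c hc => ((hCmem c).1 hc).1
  have hCn : ∀ f ∈ F, ∀ c ∈ C, f * c * f⁻¹ ∈ C := by
    intro f hf c hc
    obtain ⟨hcF, hcM⟩ := (hCmem c).1 hc
    refine (hCmem _).2 ⟨mul_mem (mul_mem hf hcF) (inv_mem hf), ?_⟩
    intro m hm
    have h1 : f⁻¹ * m * f⁻¹⁻¹ ∈ M := hMnF f⁻¹ (inv_mem hf) m hm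
    have h2 := hcM _ h1
    calc f * c * f⁻¹ * m = f * (c * (f⁻¹ * m * f⁻¹⁻¹)) * f⁻¹ := by group
      _ = f * ((f⁻¹ * m * f⁻¹⁻¹) * c) * f⁻¹ := by rw [h2]
      _ = m * (f * c * f⁻¹) := by group
  obtain ⟨n, hn⟩ := (Subgroup.isNilpotent_iff_lowerCentralSeries F).1 hFnil
  obtain ⟨Cs, hCs0, hCss⟩ : ∃ Cs : ℕ → Subgroup G, Cs 0 = C ∧ ∀ i, Cs (i + 1) = ⁅Cs i, F⁆ :=
    ⟨fun i => Nat.rec C (fun _ X => ⁅X, F⁆) i, rfl, fun _ => rfl⟩
  have hCs_le : ∀ i, Cs i ≤ F.lowerCentralSeries i := by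
    intro i
    induction i with
    | zero => rw [hCs0]; exact hCF
    | succ i ih =>
      rw [hCss, Subgroup.lowerCentralSeries_succ]
      exact Subgroup.commutator_mono ih le_rfl
  have hCs_C : ∀ i, Cs i ≤ C := by
    intro i
    induction i with
    | zero => rw [hCs0]
    | succ i ih =>
      rw [hCss, Subgroup.commutator_le]
      intro x hx f hf
      have e : ⁅x, f⁆ = x * (f * x⁻¹ * f⁻¹) := by rw [commutatorElement_def]; group
      rw [e]
      exact mul_mem (ih hx) (hCn f hf _ (inv_mem (ih hx)))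
  have hex : ∃ j, Cs j ≤ M := ⟨n, by
    have := hCs_le n
    rw [hn] at this
    exact this.trans bot_le⟩
  have hf0C : f0 ∈ C := (hCmem f0).2 ⟨hf0F, hf0c⟩
  have hj0 : Nat.find hex ≠ 0 := by
    intro h0
    have := Nat.find_spec hex
    rw [h0, hCs0] at this
    exact hf0M (this hf0C)
  obtain ⟨j, hj⟩ := Nat.exists_eq_succ_of_ne_zero hj0
  have hj1 : Cs (j + 1) ≤ M := by
    have := Nat.find_spec hex
    rwa [hj] at this
  have hj2 : ¬ Cs j ≤ M := Nat.find_min hex (by omega)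
  obtain ⟨x0, hx0, hx0M⟩ := SetLike.not_le_iff_exists.1 hj2
  let D : Subgroup G :=
    { carrier := {x | x ∈ C ∧ ∀ f ∈ F, x * f * x⁻¹ * f⁻¹ ∈ M}
      one_mem' := ⟨one_mem C, fun f _ => by simp⟩
      mul_mem' := by
        rintro x y ⟨hx, hx'⟩ ⟨hy, hy'⟩
        refine ⟨mul_mem hx hy, fun f hf => ?_⟩
        have e : x * y * f * (x * y)⁻¹ * f⁻¹ = x * (y * f * y⁻¹ * f⁻¹) * x⁻¹ * (x * f * x⁻¹ * f⁻¹) := by
          group
        rw [e]
        exact mul_mem (hMnF x (hCF hx) _ (hy' f hf)) (hx' f hf)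
      inv_mem' := by
        rintro x ⟨hx, hx'⟩
        refine ⟨inv_mem hx, fun f hf => ?_⟩
        have e : x⁻¹ * f * x⁻¹⁻¹ * f⁻¹ = x⁻¹ * (x * f * x⁻¹ * f⁻¹)⁻¹ * x⁻¹⁻¹ := by group
        rw [e]
        exact hMnF x⁻¹ (inv_mem (hCF hx)) _ (inv_mem (hx' f hf)) }
  have hDmem : ∀ x, x ∈ D ↔ x ∈ C ∧ ∀ f ∈ F, x * f * x⁻¹ * f⁻¹ ∈ M := fun x => Iff.rfl
  have hDF : D ≤ F := fun x hx => hCF ((hDmem x).1 hx).1
  have hMC : M ≤ C := fun m hm => (hCmem m).2 ⟨hMF hm, fun m' hm' => hMab m hm m' hm'⟩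
  have hMD : M ≤ D := by
    intro m hm
    refine (hDmem m).2 ⟨hMC hm, fun f hf => ?_⟩
    have e : m * f * m⁻¹ * f⁻¹ = m * (f * m⁻¹ * f⁻¹) := by group
    rw [e]
    exact mul_mem hm (hMnF f hf _ (inv_mem hm))
  have hx0D : x0 ∈ D := by
    refine (hDmem x0).2 ⟨hCs_C j hx0, fun f hf => ?_⟩
    apply hj1
    rw [hCss, ← commutatorElement_def]
    exact Subgroup.commutator_mem_commutator hx0 hf
  have hlt : M < D := lt_of_le_of_ne hMD (fun h => hx0M (by rw [h]; exact hx0D))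
  have hH : DihHyp D M :=
    ⟨hMD, fun s hs m hm => hMnF s (hDF hs) m hm,
      fun s hs t ht => ((hDmem s).1 hs).2 t (hDF ht),
      fun s hs hss => dih_odd_of_card F M hFodd s (hDF hs) hss⟩
  have hAct : ∀ a ∈ A, DihAct D M a := by
    intro a ha
    have hai : a⁻¹ = a := inv_eq_of_mul_eq_one_left (hA2 a ha)
    refine ⟨hA2 a ha, ?_, hMnA a ha⟩
    intro x hx
    obtain ⟨hxC, hxF⟩ := (hDmem x).1 hx
    obtain ⟨hxF', hxM⟩ := (hCmem x).1 hxC
    refine (hDmem _).2 ⟨(hCmem _).2 ⟨hAF a ha x hxF', ?_⟩, ?_⟩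
    · intro m hm
      have h1 : a⁻¹ * m * a⁻¹⁻¹ ∈ M := hMnA a⁻¹ (by rw [hai]; exact ha) m hm
      have h2 := hxM _ h1
      calc a * x * a⁻¹ * m = a * (x * (a⁻¹ * m * a⁻¹⁻¹)) * a⁻¹ := by group
        _ = a * ((a⁻¹ * m * a⁻¹⁻¹) * x) * a⁻¹ := by rw [h2]
        _ = m * (a * x * a⁻¹) := by group
    · intro f hf
      have h1 : a⁻¹ * f * a⁻¹⁻¹ ∈ F := hAF a⁻¹ (by rw [hai]; exact ha) f hf
      have h2 := hxF _ h1
      have e : a * x * a⁻¹ * f * (a * x * a⁻¹)⁻¹ * f⁻¹ =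
          a * (x * (a⁻¹ * f * a⁻¹⁻¹) * x⁻¹ * (a⁻¹ * f * a⁻¹⁻¹)⁻¹) * a⁻¹ := by group
      rw [e]
      exact hMnA a ha _ h2
  obtain ⟨T, hT⟩ := dih_list (A : Set G)
  obtain ⟨x, hxD, hxM, hxT⟩ := dih_eigen M T D hH (fun a ha => hAct a ((hT a).1 ha))
    (fun a ha b hb => hAc a ((hT a).1 ha) b ((hT b).1 hb)) hlt
  obtain ⟨hxC, hxF⟩ := (hDmem x).1 hxD
  obtain ⟨hxF', hxcM⟩ := (hCmem x).1 hxC
  have hle : M ⊔ Subgroup.zpowers x ≤ M := by
    refine hMmax.le_of_ge ⟨?_, ?_, ?_, ?_⟩ le_sup_left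
    · exact sup_le hMF (by rw [Subgroup.zpowers_le]; exact hxF')
    · have ha : M ⊔ Subgroup.zpowers x ≤ Subgroup.centralizer ({x} : Set G) := by
        refine sup_le (fun m hm => ?_) ?_
        · rw [Subgroup.mem_centralizer_iff]
          intro h hh
          rw [Set.mem_singleton_iff] at hh
          rw [hh]; exact hxcM m hm
        · rw [Subgroup.zpowers_le, Subgroup.mem_centralizer_iff]
          intro h hh
          rw [Set.mem_singleton_iff] at hh
          rw [hh]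
      have hb : M ⊔ Subgroup.zpowers x ≤ Subgroup.centralizer (M : Set G) := by
        refine sup_le (fun m hm => ?_) ?_
        · rw [Subgroup.mem_centralizer_iff]
          intro h hh
          exact hMab h hh m hm
        · rw [Subgroup.zpowers_le, Subgroup.mem_centralizer_iff]
          intro h hh
          exact (hxcM h hh).symm
      intro u hu v hv
      have hc : M ⊔ Subgroup.zpowers x ≤ Subgroup.centralizer ({v} : Set G) := by
        refine sup_le (fun m hm => ?_) ?_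
        · rw [Subgroup.mem_centralizer_iff]
          intro h hh
          rw [Set.mem_singleton_iff] at hh
          rw [hh]
          exact ((Subgroup.mem_centralizer_iff.1 (hb hv)) m hm).symm
        · rw [Subgroup.zpowers_le, Subgroup.mem_centralizer_iff]
          intro h hh
          rw [Set.mem_singleton_iff] at hh
          rw [hh]
          exact ((Subgroup.mem_centralizer_iff.1 (ha hv)) x rfl).symm
      exact ((Subgroup.mem_centralizer_iff.1 (hc hu)) v rfl).symm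
    · intro f hf
      apply dih_sup_conj
      · intro m hm
        exact (le_sup_left : M ≤ M ⊔ Subgroup.zpowers x) (hMnF f hf m hm)
      · have e : f * x * f⁻¹ = (x * f * x⁻¹ * f⁻¹)⁻¹ * x := by group
        rw [e]
        exact mul_mem ((le_sup_left : M ≤ M ⊔ Subgroup.zpowers x) (inv_mem (hxF f hf)))
          ((le_sup_right : Subgroup.zpowers x ≤ M ⊔ Subgroup.zpowers x) (Subgroup.mem_zpowers x))
    · intro a ha
      apply dih_sup_conj
      · intro m hm
        exact (le_sup_left : M ≤ M ⊔ Subgroup.zpowers x) (hMnA a ha m hm)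
      · rcases hxT a ((hT a).2 ha) with h | h
        · have e : a * x * a⁻¹ = (a * x * a⁻¹ * x⁻¹) * x := by group
          rw [e]
          exact mul_mem ((le_sup_left : M ≤ M ⊔ Subgroup.zpowers x) h)
            ((le_sup_right : Subgroup.zpowers x ≤ M ⊔ Subgroup.zpowers x)
              (Subgroup.mem_zpowers x))
        · have e : a * x * a⁻¹ = (a * x * a⁻¹ * x) * x⁻¹ := by group
          rw [e]
          exact mul_mem ((le_sup_left : M ≤ M ⊔ Subgroup.zpowers x) h)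
            ((le_sup_right : Subgroup.zpowers x ≤ M ⊔ Subgroup.zpowers x)
              (inv_mem (Subgroup.mem_zpowers x)))
  exact hxM (hle ((le_sup_right : Subgroup.zpowers x ≤ M ⊔ Subgroup.zpowers x)
    (Subgroup.mem_zpowers x)))


/-- independent common eigenvectors for a faithful action on an abelian group of odd order -/
lemma dih_indep {G : Type*} [Group G] [Finite G] (M A : Subgroup G)
    (hMab : ∀ x ∈ M, ∀ y ∈ M, x * y = y * x) (hModd : Odd (Nat.card M))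
    (hA2 : ∀ a ∈ A, a * a = 1) (hAc : ∀ a ∈ A, ∀ b ∈ A, a * b = b * a)
    (hAM : ∀ a ∈ A, ∀ m ∈ M, a * m * a⁻¹ ∈ M)
    (hfaith : ∀ a ∈ A, (∀ m ∈ M, a * m * a⁻¹ = m) → a = 1) :
    ∀ (n : ℕ) (B : Subgroup G), B ≤ A → Nat.card B = 2 ^ n →
      ∃ y : Fin n → G, (∀ i, y i ∈ M ∧ y i ≠ 1 ∧
          ∀ a ∈ A, a * y i * a⁻¹ = y i ∨ a * y i * a⁻¹ = (y i)⁻¹) ∧
        ∀ b ∈ B, (∀ i, b * y i * b⁻¹ = y i) → b = 1 := by
  classical
  have hH : DihHyp M ⊥ := by
    refine ⟨bot_le, ?_, ?_, dih_odd_of_card M ⊥ hModd⟩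
    · intro s _ m hm
      rw [Subgroup.mem_bot] at hm ⊢
      rw [hm]; group
    · intro s hs t ht
      rw [Subgroup.mem_bot, hMab s hs t ht]; group
  have hAct : ∀ a ∈ A, DihAct M ⊥ a := by
    intro a ha
    refine ⟨hA2 a ha, hAM a ha, ?_⟩
    intro m hm
    rw [Subgroup.mem_bot] at hm ⊢
    rw [hm]; group
  obtain ⟨T, hT⟩ := dih_list (A : Set G)
  intro n
  induction n with
  | zero =>
    intro B _ hB
    refine ⟨Fin.elim0, fun i => i.elim0, ?_⟩
    intro b hb _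
    have hBbot : B = ⊥ := Subgroup.card_eq_one.1 (by rw [hB, pow_zero])
    rw [hBbot, Subgroup.mem_bot] at hb
    exact hb
  | succ n ih =>
    intro B hBA hB
    have hB1 : B ≠ ⊥ := by
      intro h
      rw [h, Subgroup.card_bot] at hB
      have : 2 ^ (n + 1) ≥ 2 := by
        calc 2 ^ (n + 1) = 2 * 2 ^ n := by ring
          _ ≥ 2 * 1 := Nat.mul_le_mul_left 2 (Nat.one_le_two_pow)
      omega
    obtain ⟨b0, hb0, hb01⟩ : ∃ b0 : G, b0 ∈ B ∧ b0 ≠ 1 := by
      obtain ⟨b, hb⟩ := (Subgroup.ne_bot_iff_exists_ne_one (H := B)).1 hB1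
      exact ⟨b.1, b.2, fun h1 => hb (Subtype.ext h1)⟩
    have hb0A := hBA hb0
    have hex : ∃ s ∈ M, b0 * s * b0⁻¹ ≠ s := by
      by_contra hcon
      push Not at hcon
      exact hb01 (hfaith b0 hb0A hcon)
    obtain ⟨s, hs, hsne⟩ := hex
    have hlt : ⊥ < dihMinus M ⊥ hH b0 := by
      apply dih_lt_minus M ⊥ hH b0 (hAct b0 hb0A) s hs
      rw [Subgroup.mem_bot]
      intro h
      exact hsne (mul_inv_eq_one.1 h)
    obtain ⟨x, hxm, hxb, hxT⟩ := dih_eigen ⊥ T (dihMinus M ⊥ hH b0)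
      (hH.mono bot_le (dihMinus_le M ⊥ hH b0))
      (fun a ha => dihAct_minus M ⊥ hH b0 a (hAct a ((hT a).1 ha)) (hAc b0 hb0A a ((hT a).1 ha)))
      (fun a ha b hb => hAc a ((hT a).1 ha) b ((hT b).1 hb)) hlt
    have hxM : x ∈ M := hxm.1
    have hx1 : x ≠ 1 := fun h => hxb (by rw [Subgroup.mem_bot]; exact h)
    have hb0x : b0 * x * b0⁻¹ = x⁻¹ := by
      have := hxm.2
      rw [Subgroup.mem_bot] at this
      exact mul_eq_one_iff_eq_inv.1 this
    have hxinv : x⁻¹ ≠ x := by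
      intro h
      apply hx1
      have h2 : x * x = 1 := by
        calc x * x = x⁻¹ * x := by rw [h]
          _ = 1 := inv_mul_cancel x
      have := hH.odd x hxM (by rw [h2]; exact one_mem _)
      rwa [Subgroup.mem_bot] at this
    have hxA : ∀ a ∈ A, a * x * a⁻¹ = x ∨ a * x * a⁻¹ = x⁻¹ := by
      intro a ha
      rcases hxT a ((hT a).2 ha) with h | h
      · left; rw [Subgroup.mem_bot] at h; exact mul_inv_eq_one.1 h
      · right; rw [Subgroup.mem_bot] at h; exact mul_eq_one_iff_eq_inv.1 h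
    obtain ⟨B', hB'⟩ : ∃ B' : Subgroup G, B' = B ⊓ Subgroup.centralizer ({x} : Set G) := ⟨_, rfl⟩
    have hB'mem : ∀ b, b ∈ B' ↔ b ∈ B ∧ b * x * b⁻¹ = x := by
      intro b
      rw [hB', Subgroup.mem_inf, Subgroup.mem_centralizer_iff]
      constructor
      · rintro ⟨h1, h2⟩
        refine ⟨h1, ?_⟩
        rw [← h2 x rfl, mul_inv_cancel_right]
      · rintro ⟨h1, h2⟩
        refine ⟨h1, ?_⟩
        intro h hh
        rw [Set.mem_singleton_iff] at hh
        rw [hh]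
        exact (mul_inv_eq_iff_eq_mul.1 h2).symm
    have hB'B : B' ≤ B := fun b hb => ((hB'mem b).1 hb).1
    have hrel : B'.relIndex B = 2 := by
      rw [Subgroup.relIndex_eq_two_iff]
      refine ⟨b0, hb0, ?_⟩
      intro b hb
      have e : b * b0 * x * (b * b0)⁻¹ = b * (b0 * x * b0⁻¹) * b⁻¹ := by group
      rcases hxA b (hBA hb) with h | h
      · right
        refine ⟨(hB'mem b).2 ⟨hb, h⟩, ?_⟩
        intro hmem
        have := ((hB'mem _).1 hmem).2
        rw [e, hb0x] at this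
        have e2 : b * x⁻¹ * b⁻¹ = (b * x * b⁻¹)⁻¹ := by group
        rw [e2, h] at this
        exact hxinv this
      · left
        refine ⟨(hB'mem _).2 ⟨mul_mem hb hb0, ?_⟩, ?_⟩
        · rw [e, hb0x]
          have e2 : b * x⁻¹ * b⁻¹ = (b * x * b⁻¹)⁻¹ := by group
          rw [e2, h, inv_inv]
        · intro hmem
          have := ((hB'mem b).1 hmem).2
          rw [h] at this
          exact hxinv this
    have hcard : Nat.card B' = 2 ^ n := by
      have h1 := Subgroup.relIndex_mul_relIndex ⊥ B' B bot_le hB'B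
      rw [Subgroup.relIndex_bot_left, Subgroup.relIndex_bot_left, hrel, hB, pow_succ] at h1
      exact Nat.eq_of_mul_eq_mul_right (by norm_num) h1
    obtain ⟨y', hy', hind'⟩ := ih B' (hB'B.trans hBA) hcard
    refine ⟨Fin.cons x y', ?_, ?_⟩
    · intro i
      refine Fin.cases ?_ (fun i => ?_) i
      · simp only [Fin.cons_zero]
        exact ⟨hxM, hx1, hxA⟩
      · simp only [Fin.cons_succ]
        exact hy' i
    · intro b hb hall
      apply hind' b
      · refine (hB'mem b).2 ⟨hb, ?_⟩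
        have := hall 0
        simpa only [Fin.cons_zero] using this
      · intro i
        have := hall i.succ
        simpa only [Fin.cons_succ] using this

/-- dual basis -/
lemma dih_dual {G : Type*} [Group G] [Finite G] (A : Subgroup G) (d : ℕ)
    (hAd : Nat.card A = 2 ^ d)
    (hA2 : ∀ a ∈ A, a * a = 1)
    (y : Fin d → G) (hy : ∀ i, ∀ a ∈ A, a * y i * a⁻¹ = y i ∨ a * y i * a⁻¹ = (y i)⁻¹)
    (hy2 : ∀ i, (y i)⁻¹ ≠ y i)
    (hind : ∀ b ∈ A, (∀ i, b * y i * b⁻¹ = y i) → b = 1) :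
    ∃ a : Fin d → G, (∀ i, a i ∈ A ∧ a i * y i * (a i)⁻¹ = (y i)⁻¹ ∧
        ∀ j, j ≠ i → a i * y j * (a i)⁻¹ = y j) ∧
      (⨆ i, Subgroup.zpowers (a i)) = A := by
  classical
  obtain ⟨Φ, hΦ⟩ : ∃ Φ : ↥A → (Fin d → Bool),
      ∀ a i, Φ a i = decide ((a : G) * y i * (a : G)⁻¹ = y i) := ⟨_, fun _ _ => rfl⟩
  have hinj : Function.Injective Φ := by
    intro a b hab
    have h1 : (a : G) * (b : G)⁻¹ = 1 := by
      apply hind _ (mul_mem a.2 (inv_mem b.2))
      intro i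
      have hbi : (b : G)⁻¹ = b := inv_eq_of_mul_eq_one_left (hA2 b b.2)
      have e : (a : G) * (b : G)⁻¹ * y i * ((a : G) * (b : G)⁻¹)⁻¹ =
          a * ((b : G)⁻¹ * y i * (b : G)⁻¹⁻¹) * (a : G)⁻¹ := by group
      rw [e, hbi]
      have hi : Φ a i = Φ b i := by rw [hab]
      rw [hΦ, hΦ] at hi
      rcases hy i b b.2 with h | h
      · rw [h]
        have : decide ((b : G) * y i * (b : G)⁻¹ = y i) = true := decide_eq_true h
        rw [this] at hi
        exact of_decide_eq_true hi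
      · rw [h]
        have : decide ((b : G) * y i * (b : G)⁻¹ = y i) = false := by
          apply decide_eq_false
          rw [h]; exact hy2 i
        rw [this] at hi
        have hne : ¬ ((a : G) * y i * (a : G)⁻¹ = y i) := of_decide_eq_false hi
        rcases hy i a a.2 with h' | h'
        · exact absurd h' hne
        · have e2 : (a : G) * (y i)⁻¹ * (a : G)⁻¹ = ((a : G) * y i * (a : G)⁻¹)⁻¹ := by group
          rw [e2, h', inv_inv]
    exact Subtype.ext (mul_inv_eq_one.1 h1)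
  have hbij : Function.Bijective Φ := by
    apply Function.Injective.bijective_of_nat_card_le hinj
    rw [hAd]
    simp
  choose a ha using fun i : Fin d => hbij.2 (fun j => decide (j ≠ i))
  have hai : ∀ i, (a i : G) * y i * (a i : G)⁻¹ = (y i)⁻¹ := by
    intro i
    have h1 : Φ (a i) i = false := by rw [ha]; simp
    rw [hΦ] at h1
    have hne : ¬ ((a i : G) * y i * (a i : G)⁻¹ = y i) := of_decide_eq_false h1
    rcases hy i (a i) (a i).2 with h | h
    · exact absurd h hne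
    · exact h
  have haj : ∀ i j, j ≠ i → (a i : G) * y j * (a i : G)⁻¹ = y j := by
    intro i j hji
    have h1 : Φ (a i) j = true := by rw [ha]; simp [hji]
    rw [hΦ] at h1
    exact of_decide_eq_true h1
  refine ⟨fun i => (a i : G), fun i => ⟨(a i).2, hai i, haj i⟩, ?_⟩
  apply le_antisymm
  · exact iSup_le (fun i => by rw [Subgroup.zpowers_le]; exact (a i).2)
  · have key : ∀ k : ℕ, k ≤ d → ∀ b ∈ A, (∀ i : Fin d, k ≤ i.val → b * y i * b⁻¹ = y i) →
        b ∈ ⨆ i, Subgroup.zpowers (a i : G) := by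
      intro k
      induction k with
      | zero =>
        intro _ b hb hall
        rw [hind b hb (fun i => hall i (Nat.zero_le _))]
        exact one_mem _
      | succ k ih =>
        intro hk b hb hall
        have hk' : k < d := hk
        rcases hy ⟨k, hk'⟩ b hb with h | h
        · apply ih (by omega) b hb
          intro i hi
          rcases Nat.eq_or_lt_of_le hi with h1 | h1
          · have : i = ⟨k, hk'⟩ := Fin.ext h1.symm
            rw [this]; exact h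
          · exact hall i h1
        · have hmem : (a ⟨k, hk'⟩ : G) ∈ ⨆ i, Subgroup.zpowers (a i : G) :=
            Subgroup.mem_iSup_of_mem ⟨k, hk'⟩ (Subgroup.mem_zpowers _)
          have h2 : b * (a ⟨k, hk'⟩ : G) ∈ ⨆ i, Subgroup.zpowers (a i : G) := by
            apply ih (by omega) _ (mul_mem hb (a ⟨k, hk'⟩).2)
            intro i hi
            have e : b * (a ⟨k, hk'⟩ : G) * y i * (b * (a ⟨k, hk'⟩ : G))⁻¹ =
                b * ((a ⟨k, hk'⟩ : G) * y i * (a ⟨k, hk'⟩ : G)⁻¹) * b⁻¹ := by group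
            rw [e]
            rcases Nat.eq_or_lt_of_le hi with h1 | h1
            · have : i = ⟨k, hk'⟩ := Fin.ext h1.symm
              rw [this, hai]
              have e2 : b * (y ⟨k, hk'⟩)⁻¹ * b⁻¹ = (b * y ⟨k, hk'⟩ * b⁻¹)⁻¹ := by group
              rw [e2, h, inv_inv]
            · have hne : i ≠ ⟨k, hk'⟩ := by
                intro h3
                rw [h3] at h1
                exact absurd h1 (lt_irrefl _)
              rw [haj _ i hne]
              exact hall i h1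
          have e3 : b = b * (a ⟨k, hk'⟩ : G) * (a ⟨k, hk'⟩ : G)⁻¹ := by group
          rw [e3]
          exact mul_mem h2 (inv_mem hmem)
    intro b hb
    exact key d le_rfl b hb (fun i hi => absurd i.2 (by omega))

/-- an involution inverting an element of odd order generates a dihedral group with it -/
lemma dih_iso {G : Type*} [Group G] (a y : G) (ha2 : a * a = 1) (hy1 : y ≠ 1)
    (hyinv : y⁻¹ ≠ y) (hay : a * y * a⁻¹ = y⁻¹) :
    Nonempty (↥(Subgroup.zpowers a ⊔ Subgroup.zpowers y) ≃* DihedralGroup (orderOf y)) := by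
  have hai : a⁻¹ = a := inv_eq_of_mul_eq_one_left ha2
  have h0 : a * y = y⁻¹ * a := by rw [← hay]; group
  have h1 : (a * y) * (a * y) = 1 := by
    calc (a * y) * (a * y) = (y⁻¹ * a) * (a * y) := by rw [← h0]
      _ = y⁻¹ * (a * a) * y := by group
      _ = 1 := by rw [ha2]; group
  have ha1 : a ≠ 1 := by
    intro h
    rw [h] at hay
    apply hyinv
    rw [← hay]; group
  have hay1 : a * y ≠ 1 := by
    intro h
    have h2 : a = y⁻¹ := eq_inv_of_mul_eq_one_left h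
    rw [h2] at hay
    apply hyinv
    rw [← hay]; group
  have hne : a ≠ a * y := by
    intro h
    apply hy1
    have : a * 1 = a * y := by rw [mul_one]; exact h
    exact (mul_left_cancel this).symm
  have key := Cfsg.Agent.Helper4.closure_pair_mulEquiv_dihedral a (a * y) ha2 h1 ha1 hay1 hne
  have e : a * (a * y) = y := by rw [← mul_assoc, ha2, one_mul]
  rw [e] at key
  have hcl : Subgroup.closure ({a, a * y} : Set G) = Subgroup.zpowers a ⊔ Subgroup.zpowers y := by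
    apply le_antisymm
    · rw [Subgroup.closure_le]
      intro g hg
      rcases hg with rfl | rfl
      · exact (le_sup_left : Subgroup.zpowers g ≤ _) (Subgroup.mem_zpowers g)
      · exact mul_mem ((le_sup_left : Subgroup.zpowers a ≤ _) (Subgroup.mem_zpowers a))
          ((le_sup_right : Subgroup.zpowers y ≤ _) (Subgroup.mem_zpowers y))
    · refine sup_le ?_ ?_
      · rw [Subgroup.zpowers_le]; exact Subgroup.subset_closure (by simp)
      · rw [Subgroup.zpowers_le]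
        have e2 : y = a⁻¹ * (a * y) := by group
        rw [e2]
        exact mul_mem (inv_mem (Subgroup.subset_closure (by simp)))
          (Subgroup.subset_closure (by simp))
  rw [hcl] at key
  exact key


lemma dih_mem_normalizer {G : Type*} [Group G] (H : Subgroup G) (a : G) (ha2 : a * a = 1)
    (h : ∀ x ∈ H, a * x * a⁻¹ ∈ H) : a ∈ Subgroup.normalizer (H : Set G) := by
  rw [Subgroup.mem_normalizer_iff]
  intro x
  refine ⟨h x, fun hx => ?_⟩
  have h1 := h _ hx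
  have e : a * (a * x * a⁻¹) * a⁻¹ = x := by
    calc a * (a * x * a⁻¹) * a⁻¹ = (a * a) * x * (a * a)⁻¹ := by group
      _ = x := by rw [ha2]; group
  rwa [e] at h1

lemma dih_conj_mem_zpowers {G : Type*} [Group G] (a y : G)
    (h : a * y * a⁻¹ = y ∨ a * y * a⁻¹ = y⁻¹) :
    ∀ x ∈ Subgroup.zpowers y, a * x * a⁻¹ ∈ Subgroup.zpowers y := by
  intro x hx
  obtain ⟨k, rfl⟩ := Subgroup.mem_zpowers_iff.1 hx
  rw [← conj_zpow]
  rcases h with h | h
  · rw [h]; exact zpow_mem (Subgroup.mem_zpowers y) k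
  · rw [h]; exact zpow_mem (inv_mem (Subgroup.mem_zpowers y)) k

lemma dih_prime_power {G : Type*} [Group G] [Finite G] (y : G) (hy : y ≠ 1) :
    ∃ k : ℕ, (orderOf (y ^ k)).Prime := by
  have hn0 : 0 < orderOf y := orderOf_pos y
  have hn1 : orderOf y ≠ 1 := by rw [Ne, orderOf_eq_one_iff]; exact hy
  have hq : (orderOf y).minFac.Prime := Nat.minFac_prime hn1
  have hdvd : (orderOf y).minFac ∣ orderOf y := Nat.minFac_dvd _
  refine ⟨orderOf y / (orderOf y).minFac, ?_⟩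
  have hk0 : orderOf y / (orderOf y).minFac ≠ 0 :=
    (Nat.div_pos (Nat.le_of_dvd hn0 hdvd) hq.pos).ne'
  rw [orderOf_pow_of_dvd hk0 (Nat.div_dvd_of_dvd hdvd), Nat.div_div_self hdvd hn0.ne']
  exact hq

/-- independent eigen-subgroups generate their direct product -/
lemma dih_card_iSup {G : Type*} [Group G] [Finite G] (d : ℕ) (y a : Fin d → G)
    (hcomm : ∀ i j, y i * y j = y j * y i)
    (hodd : ∀ x ∈ ⨆ i, Subgroup.zpowers (y i), x * x = 1 → x = 1)
    (hai : ∀ i, a i * y i * (a i)⁻¹ = (y i)⁻¹)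
    (haj : ∀ i j, j ≠ i → a i * y j * (a i)⁻¹ = y j) :
    Nat.card ↥(⨆ i, Subgroup.zpowers (y i)) = ∏ i, Nat.card ↥(Subgroup.zpowers (y i)) := by
  classical
  have hcomm' : Pairwise fun i j : Fin d => ∀ x z : G, x ∈ Subgroup.zpowers (y i) →
      z ∈ Subgroup.zpowers (y j) → Commute x z := by
    intro i j _ x z hx hz
    obtain ⟨k, rfl⟩ := Subgroup.mem_zpowers_iff.1 hx
    obtain ⟨l, rfl⟩ := Subgroup.mem_zpowers_iff.1 hz
    exact Commute.zpow_zpow (hcomm i j) k l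
  have hind : iSupIndep fun i : Fin d => Subgroup.zpowers (y i) := by
    intro i
    rw [Subgroup.disjoint_def]
    intro x hx hx'
    have h1 : a i * x * (a i)⁻¹ = x⁻¹ := by
      obtain ⟨k, rfl⟩ := Subgroup.mem_zpowers_iff.1 hx
      rw [← conj_zpow, hai, inv_zpow]
    have h2 : (⨆ j, ⨆ (_ : j ≠ i), Subgroup.zpowers (y j)) ≤
        Subgroup.centralizer ({a i} : Set G) := by
      refine iSup₂_le (fun j hj => ?_)
      rw [Subgroup.zpowers_le, Subgroup.mem_centralizer_iff]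
      intro h hh
      rw [Set.mem_singleton_iff] at hh
      rw [hh]
      exact mul_inv_eq_iff_eq_mul.1 (haj i j hj)
    have h3 : a i * x = x * a i := Subgroup.mem_centralizer_iff.1 (h2 hx') (a i) rfl
    have h4 : x⁻¹ = x := by rw [← h1, h3, mul_inv_cancel_right]
    apply hodd x (Subgroup.mem_iSup_of_mem i hx)
    calc x * x = x⁻¹ * x := by rw [h4]
      _ = 1 := inv_mul_cancel x
  have hinj := Subgroup.injective_noncommPiCoprod_of_iSupIndep (hcomm := hcomm') hind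
  rw [← Subgroup.noncommPiCoprod_range (hcomm := hcomm'), ← Nat.card_pi]
  exact (Nat.card_congr (Equiv.ofInjective _ hinj)).symm

end Cfsg.Agent.Helper29
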