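import Mathlib

set_option autoImplicit false

open Matrix

namespace Cfsg.Agent.Helper29

/-- `w ↦ v ⬝ S w`. -/
noncomputable def jsR {F : Type*} [Field F] {n : ℕ} (S : Matrix (Fin n) (Fin n) F)
    (v : Fin n → F) : (Fin n → F) →ₗ[F] F where
  toFun w := v ⬝ᵥ (S *ᵥ w)
  map_add' x y := by simp [Matrix.mulVec_add, dotProduct_add]
  map_smul' c x := by simp [Matrix.mulVec_smul, dotProduct_smul]

/-- `v ↦ v ⬝ S w`. -/
noncomputable def jsL {F : Type*} [Field F] {n : ℕ} (S : Matrix (Fin n) (Fin n) F)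
    (w : Fin n → F) : (Fin n → F) →ₗ[F] F where
  toFun v := v ⬝ᵥ (S *ᵥ w)
  map_add' x y := by simp [add_dotProduct]
  map_smul' c x := by simp [smul_dotProduct]

theorem js_skew {F : Type*} [Field F] {n : ℕ} (S : Matrix (Fin n) (Fin n) F) (hS : Sᵀ = -S)
    (v w : Fin n → F) : v ⬝ᵥ (S *ᵥ w) = -(w ⬝ᵥ (S *ᵥ v)) := by
  calc v ⬝ᵥ (S *ᵥ w) = (v ᵥ* S) ⬝ᵥ w := Matrix.dotProduct_mulVec v S w
    _ = (Sᵀ *ᵥ v) ⬝ᵥ w := by rw [Matrix.mulVec_transpose]
    _ = -((S *ᵥ v) ⬝ᵥ w) := by rw [hS, Matrix.neg_mulVec, neg_dotProduct]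
    _ = -(w ⬝ᵥ (S *ᵥ v)) := by rw [dotProduct_comm]

/-- [P2] of helper15's S2583 job: a skew-symmetric matrix has even rank (char ≠ 2). -/
theorem rank_even_of_skew {F : Type*} [Field F] (h2 : (2 : F) ≠ 0) {n : ℕ}
    (S : Matrix (Fin n) (Fin n) F) (hS : Sᵀ = -S) : Even S.rank := by
  classical
  obtain ⟨W, hW⟩ := exists_isCompl (LinearMap.ker S.mulVecLin)
  have hr : Module.finrank F W = S.rank := by
    have h1 := Submodule.finrank_add_eq_of_isCompl hW
    have h2' := LinearMap.finrank_range_add_finrank_ker S.mulVecLin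
    have h3 : S.rank = Module.finrank F (LinearMap.range S.mulVecLin) := rfl
    omega
  rw [← hr]
  let b := Module.finBasis F W
  obtain ⟨G, hG⟩ : ∃ G : Matrix (Fin (Module.finrank F W)) (Fin (Module.finrank F W)) F,
      ∀ a c, G a c = (b a : Fin n → F) ⬝ᵥ (S *ᵥ (b c : Fin n → F)) :=
    ⟨Matrix.of fun a c => (b a : Fin n → F) ⬝ᵥ (S *ᵥ (b c : Fin n → F)), fun a c => rfl⟩
  have hGskew : Gᵀ = -G := by
    ext a c
    rw [Matrix.transpose_apply, Matrix.neg_apply, hG, hG]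
    exact js_skew S hS _ _
  have hGdet : G.det ≠ 0 := by
    intro hdet
    obtain ⟨c, hc0, hc⟩ := Matrix.exists_mulVec_eq_zero_iff.mpr hdet
    obtain ⟨w, hw⟩ : ∃ w : W, w = ∑ j, c j • b j := ⟨_, rfl⟩
    have hwS : ∀ a, (b a : Fin n → F) ⬝ᵥ (S *ᵥ (w : Fin n → F)) = 0 := by
      intro a
      have h1 := congrFun hc a
      simp only [Matrix.mulVec, dotProduct, Pi.zero_apply] at h1
      have h4 : ((jsR S (b a : Fin n → F)).comp W.subtype) w = 0 := by
        rw [hw, map_sum, ← h1]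
        refine Finset.sum_congr rfl fun j _ => ?_
        rw [map_smul, smul_eq_mul, hG, mul_comm]
        rfl
      exact h4
    have hW0 : ∀ u : W, (u : Fin n → F) ⬝ᵥ (S *ᵥ (w : Fin n → F)) = 0 := by
      intro u
      have h5 : (jsL S (w : Fin n → F)).comp W.subtype = 0 :=
        b.ext (fun a => hwS a)
      exact LinearMap.congr_fun h5 u
    have hK0 : ∀ k ∈ LinearMap.ker S.mulVecLin, k ⬝ᵥ (S *ᵥ (w : Fin n → F)) = 0 := by
      intro k hk
      have h6 : S *ᵥ k = 0 := by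
        have := LinearMap.mem_ker.mp hk
        rwa [Matrix.mulVecLin_apply] at this
      rw [js_skew S hS, h6, dotProduct_zero, neg_zero]
    have hall : ∀ v : Fin n → F, v ⬝ᵥ (S *ᵥ (w : Fin n → F)) = 0 := by
      intro v
      have hv : v ∈ LinearMap.ker S.mulVecLin ⊔ W := by rw [hW.sup_eq_top]; trivial
      obtain ⟨k, hk, u, hu, rfl⟩ := Submodule.mem_sup.mp hv
      rw [add_dotProduct, hK0 k hk, hW0 ⟨u, hu⟩, add_zero]
    have hSw : S *ᵥ (w : Fin n → F) = 0 :=
      dotProduct_eq_zero _ (fun v => by rw [dotProduct_comm]; exact hall v)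
    have hwK : (w : Fin n → F) ∈ LinearMap.ker S.mulVecLin := by
      rw [LinearMap.mem_ker, Matrix.mulVecLin_apply]; exact hSw
    have hw0 : (w : Fin n → F) = 0 := by
      have h7 : (w : Fin n → F) ∈ LinearMap.ker S.mulVecLin ⊓ W := ⟨hwK, w.2⟩
      rw [hW.inf_eq_bot] at h7
      exact (Submodule.mem_bot F).mp h7
    have hw0' : w = 0 := Subtype.ext hw0
    have h8 := Fintype.linearIndependent_iff.mp b.linearIndependent c (by rw [← hw]; exact hw0')
    exact hc0 (funext h8)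
  by_contra hodd
  rw [Nat.not_even_iff_odd] at hodd
  have h3 : G.det = -G.det := by
    have h4 : Gᵀ.det = (-G).det := by rw [hGskew]
    rw [Matrix.det_transpose, Matrix.det_neg, Fintype.card_fin, hodd.neg_one_pow,
      neg_one_mul] at h4
    exact h4
  have h5 : (2 : F) * G.det = 0 := by linear_combination h3
  rcases mul_eq_zero.mp h5 with h | h
  · exact h2 h
  · exact hGdet h

end Cfsg.Agent.Helper29
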