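import Mathlib
import Cfsg.Agent.Helper29.JordSkew

set_option autoImplicit false

open Matrix

namespace Cfsg.Agent.Helper29

/-- An alternating matrix of odd size has determinant `0` (any commutative ring, also
characteristic 2): pair `σ` with `σ⁻¹`. -/
theorem ja_det_eq_zero {R : Type*} [CommRing R] {r : ℕ} (G : Matrix (Fin r) (Fin r) R)
    (hG1 : ∀ a c, G a c = -G c a) (hG0 : ∀ a, G a a = 0) (hr : Odd r) : G.det = 0 := by
  classical
  rw [Matrix.det_apply]
  refine Finset.sum_involution (fun σ _ => σ⁻¹) ?_ ?_ (fun _ _ => Finset.mem_univ _)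
    (fun σ _ => inv_inv σ)
  · intro σ _
    have h1 : ∏ i, G (σ⁻¹ i) i = -∏ i, G (σ i) i := by
      calc ∏ i, G (σ⁻¹ i) i = ∏ j, G (σ⁻¹ (σ j)) (σ j) :=
            (Equiv.prod_comp σ (fun i => G (σ⁻¹ i) i)).symm
        _ = ∏ j, -G (σ j) j := by
            refine Finset.prod_congr rfl fun j _ => ?_
            have e : σ⁻¹ (σ j) = j := by simp
            rw [e]; exact hG1 _ _
        _ = -∏ i, G (σ i) i := by
            rw [Finset.prod_neg, Finset.card_univ, Fintype.card_fin, hr.neg_one_pow, neg_one_mul]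
    show Equiv.Perm.sign σ • ∏ i, G (σ i) i + Equiv.Perm.sign σ⁻¹ • ∏ i, G (σ⁻¹ i) i = 0
    rw [Equiv.Perm.sign_inv, h1, smul_neg, add_neg_cancel]
  · intro σ _ hne hσ
    have hσ' : σ⁻¹ = σ := hσ
    apply hne
    have h2 : σ ^ 2 = 1 := by
      rw [pow_two]
      calc σ * σ = σ⁻¹ * σ := by rw [hσ']
        _ = 1 := inv_mul_cancel σ
    have h3 := Equiv.Perm.two_dvd_card_support h2
    have h4 : σ.support ≠ Finset.univ := by
      intro h5
      rw [h5, Finset.card_univ, Fintype.card_fin] at h3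
      exact (Nat.not_even_iff_odd.mpr hr) (even_iff_two_dvd.mpr h3)
    obtain ⟨i, hi⟩ : ∃ i, i ∉ σ.support := by
      by_contra hcon
      push_neg at hcon
      exact h4 (Finset.eq_univ_iff_forall.mpr hcon)
    rw [Equiv.Perm.notMem_support] at hi
    have h6 : ∏ j, G (σ j) j = 0 := Finset.prod_eq_zero (Finset.mem_univ i) (by rw [hi, hG0])
    show Equiv.Perm.sign σ • ∏ i, G (σ i) i = 0
    rw [h6, smul_zero]

theorem ja_skew {F : Type*} [Field F] {n : ℕ} (S : Matrix (Fin n) (Fin n) F)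
    (hS : ∀ v : Fin n → F, v ⬝ᵥ (S *ᵥ v) = 0) (v w : Fin n → F) :
    v ⬝ᵥ (S *ᵥ w) = -(w ⬝ᵥ (S *ᵥ v)) := by
  have h := hS (v + w)
  simp only [Matrix.mulVec_add, dotProduct_add, add_dotProduct, hS v, hS w] at h
  linear_combination h

/-- A skew-symmetric matrix with zero diagonal is alternating as a form (any characteristic). -/
theorem ja_alt_of_skew_diag {F : Type*} [Field F] {n : ℕ} (S : Matrix (Fin n) (Fin n) F)
    (hS : Sᵀ = -S) (hd : ∀ i, S i i = 0) (v : Fin n → F) : v ⬝ᵥ (S *ᵥ v) = 0 := by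
  have h1 : v ⬝ᵥ (S *ᵥ v) = ∑ p : Fin n × Fin n, v p.1 * (S p.1 p.2 * v p.2) := by
    rw [Fintype.sum_prod_type]
    simp only [dotProduct, Matrix.mulVec, Finset.mul_sum]
  rw [h1]
  refine Finset.sum_involution (fun p _ => (p.2, p.1)) ?_ ?_ (fun _ _ => Finset.mem_univ _)
    (fun p _ => rfl)
  · intro p _
    have h2 : S p.2 p.1 = -S p.1 p.2 := by
      have := congrFun (congrFun hS p.1) p.2
      rw [Matrix.transpose_apply, Matrix.neg_apply] at this
      exact this
    show v p.1 * (S p.1 p.2 * v p.2) + v p.2 * (S p.2 p.1 * v p.1) = 0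
    rw [h2]; ring
  · intro p _ hne hp
    apply hne
    have h3 : p.2 = p.1 := congrArg Prod.fst hp
    show v p.1 * (S p.1 p.2 * v p.2) = 0
    rw [h3, hd]; ring

/-- An alternating matrix (as a form: `v ⬝ S v = 0` for all `v`) has even rank, in every
characteristic. -/
theorem rank_even_of_alt {F : Type*} [Field F] {n : ℕ} (S : Matrix (Fin n) (Fin n) F)
    (hS : ∀ v : Fin n → F, v ⬝ᵥ (S *ᵥ v) = 0) : Even S.rank := by
  classical
  obtain ⟨W, hW⟩ := exists_isCompl (LinearMap.ker S.mulVecLin)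
  have hr : Module.finrank F W = S.rank := by
    have h1 := Submodule.finrank_add_eq_of_isCompl hW
    have h2' := LinearMap.finrank_range_add_finrank_ker S.mulVecLin
    have h3 : S.rank = Module.finrank F (LinearMap.range S.mulVecLin) := rfl
    omega
  rw [← hr]
  let b := Module.finBasis F W
  obtain ⟨G, hG⟩ : ∃ G : Matrix (Fin (Module.finrank F W)) (Fin (Module.finrank F W)) F,
      ∀ a c, G a c = (b a : Fin n → F) ⬝ᵥ (S *ᵥ (b c : Fin n → F)) :=
    ⟨Matrix.of fun a c => (b a : Fin n → F) ⬝ᵥ (S *ᵥ (b c : Fin n → F)), fun a c => rfl⟩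
  have hGdet : G.det ≠ 0 := by
    intro hdet
    obtain ⟨c, hc0, hc⟩ := Matrix.exists_mulVec_eq_zero_iff.mpr hdet
    obtain ⟨w, hw⟩ : ∃ w : W, w = ∑ j, c j • b j := ⟨_, rfl⟩
    have hwS : ∀ a, (b a : Fin n → F) ⬝ᵥ (S *ᵥ (w : Fin n → F)) = 0 := by
      intro a
      have h1 := congrFun hc a
      simp only [Matrix.mulVec, dotProduct, Pi.zero_apply] at h1
      have h4 : ((jsR S (b a : Fin n → F)).comp W.subtype) w = 0 := by
        rw [hw, map_sum, ← h1]
        refine Finset.sum_congr rfl fun j _ => ?_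
        rw [map_smul, smul_eq_mul, hG, mul_comm]
        rfl
      exact h4
    have hW0 : ∀ u : W, (u : Fin n → F) ⬝ᵥ (S *ᵥ (w : Fin n → F)) = 0 := by
      intro u
      have h5 : (jsL S (w : Fin n → F)).comp W.subtype = 0 :=
        b.ext (fun a => hwS a)
      exact LinearMap.congr_fun h5 u
    have hK0 : ∀ k ∈ LinearMap.ker S.mulVecLin, k ⬝ᵥ (S *ᵥ (w : Fin n → F)) = 0 := by
      intro k hk
      have h6 : S *ᵥ k = 0 := by
        have := LinearMap.mem_ker.mp hk
        rwa [Matrix.mulVecLin_apply] at this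
      rw [ja_skew S hS, h6, dotProduct_zero, neg_zero]
    have hall : ∀ v : Fin n → F, v ⬝ᵥ (S *ᵥ (w : Fin n → F)) = 0 := by
      intro v
      have hv : v ∈ LinearMap.ker S.mulVecLin ⊔ W := by rw [hW.sup_eq_top]; trivial
      obtain ⟨k, hk, u, hu, rfl⟩ := Submodule.mem_sup.mp hv
      rw [add_dotProduct, hK0 k hk, hW0 ⟨u, hu⟩, add_zero]
    have hSw : S *ᵥ (w : Fin n → F) = 0 :=
      dotProduct_eq_zero _ (fun v => by rw [dotProduct_comm]; exact hall v)
    have hwK : (w : Fin n → F) ∈ LinearMap.ker S.mulVecLin := by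
      rw [LinearMap.mem_ker, Matrix.mulVecLin_apply]; exact hSw
    have hw0 : (w : Fin n → F) = 0 := by
      have h7 : (w : Fin n → F) ∈ LinearMap.ker S.mulVecLin ⊓ W := ⟨hwK, w.2⟩
      rw [hW.inf_eq_bot] at h7
      exact (Submodule.mem_bot F).mp h7
    have hw0' : w = 0 := Subtype.ext hw0
    have h8 := Fintype.linearIndependent_iff.mp b.linearIndependent c (by rw [← hw]; exact hw0')
    exact hc0 (funext h8)
  by_contra hodd
  rw [Nat.not_even_iff_odd] at hodd
  exact hGdet (ja_det_eq_zero G (fun a c => by rw [hG, hG]; exact ja_skew S hS _ _)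
    (fun a => by rw [hG]; exact hS _) hodd)

/-- Matrix form: skew-symmetric with zero diagonal ⇒ even rank (every characteristic). -/
theorem rank_even_of_skew_diag {F : Type*} [Field F] {n : ℕ} (S : Matrix (Fin n) (Fin n) F)
    (hS : Sᵀ = -S) (hd : ∀ i, S i i = 0) : Even S.rank :=
  rank_even_of_alt S (ja_alt_of_skew_diag S hS hd)

end Cfsg.Agent.Helper29
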