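import Mathlib
import Cfsg.Agent.Helper11.JordOrth
import Cfsg.Agent.Helper21.BlockRank

set_option autoImplicit false

open Matrix

namespace Cfsg.Agent.Helper29

theorem jp_fromBlocks_pow {F : Type*} [Field F] {m n : Type*} [Fintype m] [Fintype n]
    [DecidableEq m] [DecidableEq n] (X : Matrix m m F) (Y : Matrix n n F) (k : ℕ) :
    (Matrix.fromBlocks X 0 0 Y) ^ k = Matrix.fromBlocks (X ^ k) 0 0 (Y ^ k) := by
  induction k with
  | zero => simp [Matrix.fromBlocks_one]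
  | succ k ih =>
    rw [pow_succ, ih, Matrix.fromBlocks_multiply]
    simp [pow_succ]

theorem jp_fromBlocks_sub_one {F : Type*} [Field F] {m n : Type*} [Fintype m] [Fintype n]
    [DecidableEq m] [DecidableEq n] (X : Matrix m m F) (Y : Matrix n n F) :
    Matrix.fromBlocks X 0 0 Y - 1 = Matrix.fromBlocks (X - 1) 0 0 (Y - 1) := by
  ext (i | i) (j | j) <;> simp [Matrix.sub_apply, Matrix.one_apply]

/-- [P6b] of helper15's S2583 job. -/
theorem pair_block_form {F : Type*} [Field F] (d : ℕ) :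
    ∃ A M : Matrix (Fin d ⊕ Fin d) (Fin d ⊕ Fin d) F,
      Mᵀ = M ∧ M.det ≠ 0 ∧ Aᵀ * M * A = M ∧ ∀ k, ((A - 1) ^ k).rank = (d - k) + (d - k) := by
  classical
  obtain ⟨N, hN⟩ : ∃ N : Matrix (Fin d) (Fin d) F, N = Helper11.joS F d 1 := ⟨_, rfl⟩
  have hNpow : ∀ k, N ^ k = Helper11.joS F d k := fun k => by rw [hN]; exact Helper11.joS_pow d k
  have hNnil : IsNilpotent N := ⟨d, by rw [hNpow, Helper11.joS_eq_zero d d le_rfl]⟩
  obtain ⟨u, hu⟩ := hNnil.isUnit_one_add
  obtain ⟨J, hJu⟩ : ∃ J : Matrix (Fin d) (Fin d) F, J = ↑u := ⟨_, rfl⟩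
  obtain ⟨Ji, hJiu⟩ : ∃ Ji : Matrix (Fin d) (Fin d) F,
      Ji = ((u⁻¹ : (Matrix (Fin d) (Fin d) F)ˣ) : Matrix (Fin d) (Fin d) F) := ⟨_, rfl⟩
  have hJ : J = 1 + N := by rw [hJu, hu]
  have hJiJ : Ji * J = 1 := by rw [hJu, hJiu]; exact u.inv_mul
  have hcomm : Commute N Ji := by
    have h1 : Commute N (u : Matrix (Fin d) (Fin d) F) := by
      rw [hu]; exact (Commute.one_right N).add_right (Commute.refl N)
    rw [hJiu]
    exact h1.units_inv_right
  have hT : Jᵀ * Jiᵀ = 1 := by rw [← Matrix.transpose_mul, hJiJ, Matrix.transpose_one]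
  refine ⟨Matrix.fromBlocks J 0 0 Jiᵀ,
    Matrix.fromBlocks (0 : Matrix (Fin d) (Fin d) F) (1 : Matrix (Fin d) (Fin d) F)
      (1 : Matrix (Fin d) (Fin d) F) (0 : Matrix (Fin d) (Fin d) F), ?_, ?_, ?_, ?_⟩
  · rw [Matrix.fromBlocks_transpose]; simp
  · have h1 : (Matrix.fromBlocks (0 : Matrix (Fin d) (Fin d) F) (1 : Matrix (Fin d) (Fin d) F)
          (1 : Matrix (Fin d) (Fin d) F) (0 : Matrix (Fin d) (Fin d) F))
        * (Matrix.fromBlocks (0 : Matrix (Fin d) (Fin d) F) (1 : Matrix (Fin d) (Fin d) F)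
          (1 : Matrix (Fin d) (Fin d) F) (0 : Matrix (Fin d) (Fin d) F)) = 1 := by
      rw [Matrix.fromBlocks_multiply]; simp [Matrix.fromBlocks_one]
    intro h0
    have h2 := congrArg Matrix.det h1
    rw [Matrix.det_mul, h0, Matrix.det_one, zero_mul] at h2
    exact zero_ne_one h2
  · rw [Matrix.fromBlocks_transpose, Matrix.fromBlocks_multiply, Matrix.fromBlocks_multiply]
    simp [hT, hJiJ]
  · intro k
    have e2 : Ji - 1 = (-Ji) * N := by
      have h1 := hJiJ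
      rw [hJ, mul_add, mul_one] at h1
      rw [neg_mul, ← h1]; abel
    have e1 : Matrix.fromBlocks J 0 0 Jiᵀ - 1 = Matrix.fromBlocks N 0 0 ((-Ji) * N)ᵀ := by
      rw [jp_fromBlocks_sub_one, ← e2, Matrix.transpose_sub, Matrix.transpose_one, hJ,
        add_sub_cancel_left]
    rw [e1, jp_fromBlocks_pow, Helper21.br21_rank_fromBlocks, ← Matrix.transpose_pow,
      Matrix.rank_transpose, hNpow, Helper11.joS_rank]
    congr 1
    have hc2 : Commute (-Ji) N := hcomm.symm.neg_left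
    have hun : IsUnit ((-Ji) ^ k).det := by
      rw [Matrix.det_pow]
      exact (Matrix.isUnit_det_of_right_inverse (B := -J) (by rw [neg_mul_neg, hJiJ])).pow k
    rw [hc2.mul_pow, Matrix.rank_mul_eq_right_of_isUnit_det _ _ hun, hNpow, Helper11.joS_rank]

end Cfsg.Agent.Helper29
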