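import Mathlib
import Cfsg.Agent.S2167

set_option autoImplicit false

open Matrix

namespace Cfsg.Agent.Helper29

/-- [R3] of helper15's S2582 job. -/
theorem symp_rank_even {F : Type*} [Field F] {m : ℕ}
    (A P : Matrix (Fin m ⊕ Fin m) (Fin m ⊕ Fin m) F)
    (halt : ∀ v, v ⬝ᵥ P *ᵥ v = 0) (hdet : P.det ≠ 0) (hA : Aᵀ * P * A = P) (k : ℕ)
    (hk : Even k) : Even ((A - 1) ^ k).rank := by
  classical
  obtain ⟨i, rfl⟩ := hk
  have hd := congrArg Matrix.det hA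
  rw [Matrix.det_mul, Matrix.det_mul, Matrix.det_transpose] at hd
  have hA0 : A.det ≠ 0 := by
    intro h0
    apply hdet
    rw [← hd, h0, mul_zero]
  have hAu : IsUnit A.det := hA0.isUnit
  obtain ⟨B, hB⟩ : ∃ B : Matrix (Fin m ⊕ Fin m) (Fin m ⊕ Fin m) F, B = A⁻¹ := ⟨_, rfl⟩
  have hAB : A * B = 1 := by rw [hB]; exact Matrix.mul_nonsing_inv A hAu
  have hBA : B * A = 1 := by rw [hB]; exact Matrix.nonsing_inv_mul A hAu
  obtain ⟨N, hN⟩ : ∃ N : Matrix (Fin m ⊕ Fin m) (Fin m ⊕ Fin m) F, N = A - 1 := ⟨_, rfl⟩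
  rw [← hN]
  have h1 : Aᵀ * P = P * B := by
    calc Aᵀ * P = Aᵀ * P * (A * B) := by rw [hAB, mul_one]
      _ = (Aᵀ * P * A) * B := by rw [← mul_assoc]
      _ = P * B := by rw [hA]
  have e1 : (-B) * N = B - 1 := by
    rw [hN, neg_mul, mul_sub, mul_one, hBA]; abel
  have h2 : Nᵀ * P = P * ((-B) * N) := by
    rw [e1, hN, Matrix.transpose_sub, Matrix.transpose_one, sub_mul, one_mul, h1, mul_sub, mul_one]
  have hcBA : Commute B A := by
    show B * A = A * B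
    rw [hBA, hAB]
  have hc : Commute (-B) N := by
    rw [hN]
    exact (hcBA.sub_right (Commute.one_right B)).neg_left
  have h3 : ∀ j : ℕ, (Nᵀ) ^ j * P = P * ((-B) * N) ^ j := by
    intro j
    induction j with
    | zero => simp
    | succ j ih =>
      calc (Nᵀ) ^ (j + 1) * P = (Nᵀ) ^ j * (Nᵀ * P) := by rw [pow_succ, mul_assoc]
        _ = (Nᵀ) ^ j * P * ((-B) * N) := by rw [h2, ← mul_assoc]
        _ = P * ((-B) * N) ^ j * ((-B) * N) := by rw [ih]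
        _ = P * ((-B) * N) ^ (j + 1) := by rw [mul_assoc, ← pow_succ]
  have hS : (N ^ i)ᵀ * P * N ^ i = P * (-B) ^ i * N ^ (i + i) := by
    calc (N ^ i)ᵀ * P * N ^ i = P * ((-B) * N) ^ i * N ^ i := by rw [Matrix.transpose_pow, h3]
      _ = P * ((-B) ^ i * N ^ i) * N ^ i := by rw [hc.mul_pow]
      _ = P * (-B) ^ i * N ^ (i + i) := by rw [pow_add]; simp only [mul_assoc]
  have halt' : ∀ v : Fin m ⊕ Fin m → F, v ⬝ᵥ (((N ^ i)ᵀ * P * N ^ i).mulVec v) = 0 := by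
    intro v
    have e : ((N ^ i)ᵀ * P * N ^ i) *ᵥ v = (N ^ i)ᵀ *ᵥ (P *ᵥ (N ^ i *ᵥ v)) := by
      simp only [Matrix.mulVec_mulVec, Matrix.mul_assoc]
    rw [e, Matrix.dotProduct_mulVec, Matrix.vecMul_transpose]
    exact halt _
  have hev := Cfsg.Agent.S2167.even_rank_of_alt _ halt'
  have hun : IsUnit (P * (-B) ^ i).det := by
    rw [Matrix.det_mul, Matrix.det_pow]
    exact hdet.isUnit.mul
      ((Matrix.isUnit_det_of_right_inverse (B := -A) (by rw [neg_mul_neg, hBA])).pow i)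
  rw [hS, Matrix.rank_mul_eq_right_of_isUnit_det _ _ hun] at hev
  exact hev

end Cfsg.Agent.Helper29
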