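import Mathlib
import Cfsg.Agent.Helper21.Wielandt

/-!
Counting subgroups of order `p ^ a` modulo `p ^ 2`: reduction to a Sylow subgroup.
-/

set_option autoImplicit false

namespace Cfsg.Agent.Helper29.Kul

open MulAction
open scoped Pointwise

theorem natCard_subtype_eq_filter {α : Type*} [Fintype α] (q : α → Prop) [DecidablePred q] :
    Nat.card {x // q x} = (Finset.univ.filter q).card := by
  rw [Nat.card_eq_fintype_card, Fintype.card_subtype]

theorem card_subtype_split {α : Type*} [Finite α] (A B : α → Prop) :
    Nat.card {x // A x} = Nat.card {x // A x ∧ B x} + Nat.card {x // A x ∧ ¬ B x} := by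
  classical
  haveI := Fintype.ofFinite α
  rw [natCard_subtype_eq_filter, natCard_subtype_eq_filter, natCard_subtype_eq_filter,
    ← Finset.card_filter_add_card_filter_not (s := Finset.univ.filter A) B,
    Finset.filter_filter, Finset.filter_filter]

/-- Sum of an invariant function over a set with an action all of whose orbits have length
divisible by `d`. -/
theorem dvd_sum_of_invariant {G X : Type*} [Group G] [MulAction G X] [Finite G] [Fintype X]
    (d e : ℕ) (f : X → ℕ) (hf : ∀ (g : G) (x : X), f (g • x) = f x)
    (h : ∀ x : X, d ∣ (stabilizer G x).index) (he : ∀ x : X, e ∣ f x) :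
    d * e ∣ ∑ x, f x := by
  classical
  haveI : Fintype (Quotient (orbitRel G X)) := Fintype.ofFinite _
  rw [← Finset.sum_fiberwise (Finset.univ) (fun x => (Quotient.mk (orbitRel G X) x)) f]
  apply Finset.dvd_sum
  intro ω _
  obtain ⟨x₀, rfl⟩ := Quotient.exists_rep ω
  have h1 : ∀ x ∈ Finset.univ.filter
      (fun x => Quotient.mk (orbitRel G X) x = Quotient.mk (orbitRel G X) x₀), f x = f x₀ := by
    intro x hx
    rw [Finset.mem_filter] at hx
    have h2 : x ∈ orbit G x₀ := Quotient.exact hx.2
    obtain ⟨g, rfl⟩ := h2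
    exact hf g x₀
  rw [Finset.sum_congr rfl h1, Finset.sum_const, smul_eq_mul]
  apply Nat.mul_dvd_mul _ (he x₀)
  have h2 : (Finset.univ.filter
      (fun x => Quotient.mk (orbitRel G X) x = Quotient.mk (orbitRel G X) x₀)).card =
      (stabilizer G x₀).index := by
    rw [MulAction.index_stabilizer, ← Set.ncard_coe_finset]
    congr 1
    ext x
    simp only [Finset.coe_filter, Finset.mem_univ, true_and, Set.mem_setOf_eq]
    constructor
    · intro hx
      exact Quotient.exact hx
    · intro hx
      exact Quotient.sound hx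
  rw [h2]
  exact h x₀

section conj

variable {G : Type*} [Group G]

theorem card_conj_smul (g : G) (H : Subgroup G) :
    Nat.card (MulAut.conj g • H : Subgroup G) = Nat.card H :=
  (Nat.card_congr (Subgroup.equivSMul (MulAut.conj g) H).toEquiv).symm

theorem conj_smul_self_of_mem (P : Subgroup G) {g : G} (hg : g ∈ P) :
    MulAut.conj g • P = P := by
  ext x
  rw [Helper1.mem_conj_smul]
  constructor
  · intro h
    have h1 : x = g * (g⁻¹ * x * g) * g⁻¹ := by group
    rw [h1]
    exact P.mul_mem (P.mul_mem hg h) (P.inv_mem hg)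
  · intro h
    exact P.mul_mem (P.mul_mem (P.inv_mem hg) h) hg

theorem normalizer_conj_smul (g : G) (H : Subgroup G) :
    Subgroup.normalizer ((MulAut.conj g • H : Subgroup G) : Set G) =
      MulAut.conj g • Subgroup.normalizer (H : Set G) :=
  (Subgroup.map_equiv_normalizer_eq H (MulAut.conj g)).symm

theorem mem_normalizer_of_conj_smul_eq {g : G} {H : Subgroup G} (h : MulAut.conj g • H = H) :
    g ∈ Subgroup.normalizer (H : Set G) := by
  rw [Subgroup.mem_normalizer_iff]
  intro x
  have h1 : g * x * g⁻¹ ∈ MulAut.conj g • H ↔ x ∈ H := by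
    rw [Helper1.mem_conj_smul]
    have h2 : g⁻¹ * (g * x * g⁻¹) * g = x := by group
    rw [h2]
  rw [h] at h1
  exact h1.symm

theorem conj_smul_eq_of_mem_normalizer {g : G} {H : Subgroup G}
    (h : g ∈ Subgroup.normalizer (H : Set G)) : MulAut.conj g • H = H := by
  have hg' : g⁻¹ ∈ Subgroup.normalizer (H : Set G) := Subgroup.inv_mem _ h
  rw [Subgroup.mem_normalizer_iff] at hg'
  ext x
  rw [Helper1.mem_conj_smul]
  have := hg' x
  rw [inv_inv] at this
  exact this.symm

/-- Conjugation action of a subgroup on an invariant family of subgroups. -/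
@[reducible] def conjActOn (P : Subgroup G) (A : Subgroup G → Prop)
    (hA : ∀ g : G, g ∈ P → ∀ H : Subgroup G, A H → A (MulAut.conj g • H)) :
    MulAction P {H : Subgroup G // A H} where
  smul g H := ⟨MulAut.conj (g : G) • H.1, hA g g.2 H.1 H.2⟩
  one_smul H := Subtype.ext (by
    show MulAut.conj ((1 : P) : G) • H.1 = H.1
    rw [Subgroup.coe_one, map_one, one_smul])
  mul_smul a b H := Subtype.ext (by
    show MulAut.conj ((a * b : P) : G) • H.1 = MulAut.conj (a : G) • MulAut.conj (b : G) • H.1
    rw [Subgroup.coe_mul, map_mul, mul_smul])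

/-- Subgroups below `M` with a property correspond to subgroups of `↥M`. -/
theorem card_subgroups_le_eq (M : Subgroup G) (A : Subgroup G → Prop) (B : Subgroup M → Prop)
    (hAB : ∀ H : Subgroup G, H ≤ M → (A H ↔ B (H.subgroupOf M))) :
    Nat.card {H : Subgroup G // H ≤ M ∧ A H} = Nat.card {H' : Subgroup M // B H'} := by
  apply Nat.card_congr
  exact
    { toFun := fun H => ⟨H.1.subgroupOf M, (hAB _ H.2.1).1 H.2.2⟩
      invFun := fun H' => ⟨H'.1.map M.subtype, Subgroup.map_subtype_le H'.1,
        (hAB _ (Subgroup.map_subtype_le H'.1)).2 (by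
          have h1 : (H'.1.map M.subtype).subgroupOf M = H'.1 :=
            Subgroup.comap_map_eq_self_of_injective M.subtype_injective H'.1
          rw [h1]
          exact H'.2)⟩
      left_inv := fun H => Subtype.ext (Subgroup.map_subgroupOf_eq_of_le H.2.1)
      right_inv := fun H' => Subtype.ext
        (Subgroup.comap_map_eq_self_of_injective M.subtype_injective H'.1) }

theorem card_subgroupOf_of_le {H M : Subgroup G} (h : H ≤ M) :
    Nat.card (H.subgroupOf M) = Nat.card H :=
  Nat.card_congr (Subgroup.subgroupOfEquivOfLe h).toEquiv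

end conj

end Cfsg.Agent.Helper29.Kul
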