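import Mathlib
import Cfsg.Agent.Helper29.KulA

/-!
Counting subgroups of order `p ^ a` modulo `p ^ 2`: reduction to a Sylow subgroup (continued).
-/

set_option autoImplicit false

namespace Cfsg.Agent.Helper29.Kul

open MulAction
open scoped Pointwise

/-- In a group of order `p ^ n`, the normal subgroups of order `p ^ a` not contained in a
fixed subgroup of index `p` come in a number divisible by `p`. -/
theorem dvd_card_normal_not_le {Q : Type*} [Group Q] [Finite Q] (p a n : ℕ) [hp : Fact p.Prime]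
    (hQ : Nat.card Q = p ^ n) (han : a < n) (M : Subgroup Q) (hM : Nat.card M = p ^ (n - 1)) :
    p ∣ Nat.card {H : Subgroup Q // (H.Normal ∧ Nat.card H = p ^ a) ∧ ¬ H ≤ M} := by
  classical
  have hpp : p.Prime := hp.out
  have hQp : IsPGroup p Q := IsPGroup.of_card hQ
  have hMn : M.Normal := by
    apply Subgroup.normal_of_index_eq_minFac_card
    have h1 := Subgroup.card_mul_index M
    rw [hM, hQ] at h1
    have h2 : p ^ n = p ^ (n - 1) * p := by
      rw [← pow_succ]
      congr 1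
      omega
    rw [h2] at h1
    have h3 : M.index = p := Nat.eq_of_mul_eq_mul_left (pow_pos hpp.pos _) h1
    rw [h3, hQ, hpp.pow_minFac (by omega)]
  have h1 := Helper21.card_normal_subgroups_modEq_one (G := Q) p n a hpp hQ han.le
  -- the Q-invariant subgroups of M of order p^a
  have hinv : ∀ g : Q, g ∈ (⊤ : Subgroup Q) → ∀ H : Subgroup Q,
      (Nat.card H = p ^ a ∧ H ≤ M) → (Nat.card (MulAut.conj g • H : Subgroup Q) = p ^ a ∧
        MulAut.conj g • H ≤ M) := by
    intro g _ H hH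
    refine ⟨(card_conj_smul g H).trans hH.1, ?_⟩
    have h2 : MulAut.conj g • M = M := Helper1.conj_smul_eq_of_normal M g
    rw [← h2]
    exact Subgroup.pointwise_smul_le_pointwise_smul_iff.2 hH.2
  letI : MulAction (⊤ : Subgroup Q) {H : Subgroup Q // Nat.card H = p ^ a ∧ H ≤ M} :=
    conjActOn ⊤ _ hinv
  have hTp : IsPGroup p (⊤ : Subgroup Q) := hQp.to_subgroup ⊤
  have h2 := hTp.card_modEq_card_fixedPoints {H : Subgroup Q // Nat.card H = p ^ a ∧ H ≤ M}
  have h3 : Nat.card (fixedPoints (⊤ : Subgroup Q) {H : Subgroup Q // Nat.card H = p ^ a ∧ H ≤ M})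
      = Nat.card {H : Subgroup Q // (H.Normal ∧ Nat.card H = p ^ a) ∧ H ≤ M} := by
    apply Nat.card_congr
    exact
      { toFun := fun H => ⟨H.1.1, ⟨⟨by
            constructor
            intro x hx g
            have hfix : (⟨g, Subgroup.mem_top g⟩ : (⊤ : Subgroup Q)) • H.1 = H.1 := H.2 _
            have hfix' : MulAut.conj g • H.1.1 = H.1.1 := congrArg Subtype.val hfix
            rw [← hfix', Helper1.mem_conj_smul]
            have h4 : g⁻¹ * (g * x * g⁻¹) * g = x := by group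
            rw [h4]
            exact hx, H.1.2.1⟩, H.1.2.2⟩⟩
        invFun := fun H => ⟨⟨H.1, H.2.1.2, H.2.2⟩, fun g => Subtype.ext (by
            have := H.2.1.1
            exact Helper1.conj_smul_eq_of_normal H.1 (g : Q))⟩
        left_inv := fun H => rfl
        right_inv := fun H => rfl }
  have h4 : Nat.card {H : Subgroup Q // Nat.card H = p ^ a ∧ H ≤ M} =
      Nat.card {H' : Subgroup M // Nat.card H' = p ^ a} := by
    have h5 := card_subgroups_le_eq M (fun H : Subgroup Q => Nat.card H = p ^ a)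
      (fun H' : Subgroup M => Nat.card H' = p ^ a)
      (fun H hH => by rw [card_subgroupOf_of_le hH])
    rw [← h5]
    apply Nat.card_congr
    exact Equiv.subtypeEquivRight (fun H => and_comm)
  have h5 : Nat.card {H' : Subgroup M // Nat.card H' = p ^ a} ≡ 1 [MOD p] := by
    apply Helper21.card_subgroups_modEq_one p a hpp
    rw [hM]
    exact pow_dvd_pow p (by omega)
  have h6 : Nat.card {H : Subgroup Q // (H.Normal ∧ Nat.card H = p ^ a) ∧ H ≤ M} ≡ 1 [MOD p] := by
    rw [← h3]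
    exact h2.symm.trans (h4 ▸ h5)
  rw [card_subtype_split (fun H : Subgroup Q => H.Normal ∧ Nat.card H = p ^ a)
    (fun H => H ≤ M)] at h1
  have h7 : Nat.card {H : Subgroup Q // (H.Normal ∧ Nat.card H = p ^ a) ∧ H ≤ M} +
      Nat.card {H : Subgroup Q // (H.Normal ∧ Nat.card H = p ^ a) ∧ ¬ H ≤ M} ≡
      Nat.card {H : Subgroup Q // (H.Normal ∧ Nat.card H = p ^ a) ∧ H ≤ M} + 0 [MOD p] :=
    h1.trans h6.symm
  exact (Nat.modEq_zero_iff_dvd).1 (Nat.ModEq.add_left_cancel' _ h7)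

section sylow

variable {G : Type*} [Group G] [Finite G] {p : ℕ} [hp : Fact p.Prime]

theorem le_sylow_of_le_normalizer (P : Sylow p G) {H : Subgroup G} (hH : IsPGroup p H)
    (h : (P : Subgroup G) ≤ Subgroup.normalizer (H : Set G)) : H ≤ (P : Subgroup G) := by
  have h1 : IsPGroup p (H ⊔ (P : Subgroup G) : Subgroup G) :=
    IsPGroup.to_sup_of_normal_left' hH P.isPGroup' h
  have h2 := P.is_maximal' h1 le_sup_right
  calc H ≤ H ⊔ (P : Subgroup G) := le_sup_left
    _ = P := h2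

theorem card_dvd_of_isPGroup (P : Sylow p G) {n : ℕ} (hP : Nat.card (P : Subgroup G) = p ^ n)
    {K : Subgroup G} (hK : IsPGroup p K) : Nat.card K ∣ p ^ n := by
  obtain ⟨Q, hQ⟩ := hK.exists_le_sylow
  have h1 : Nat.card (Q : Subgroup G) = p ^ n :=
    (Sylow.card_eq_multiplicity Q).trans ((Sylow.card_eq_multiplicity P).symm.trans hP)
  rw [← h1]
  exact Subgroup.card_dvd_of_le hQ

omit [Finite G] in
theorem exists_pow_lt_of_ne {K L : Subgroup G} [Finite L] {j : ℕ} (hKL : K ≤ L) (hne : K ≠ L)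
    (hL : Nat.card L = p ^ j) : ∃ i, i < j ∧ Nat.card K = p ^ i := by
  have h1 : Nat.card K ∣ p ^ j := hL ▸ Subgroup.card_dvd_of_le hKL
  obtain ⟨i, hi, hK⟩ := (Nat.dvd_prime_pow hp.out).1 h1
  refine ⟨i, lt_of_le_of_ne hi ?_, hK⟩
  rintro rfl
  exact hne (Subgroup.eq_of_le_of_card_ge hKL (by rw [hL, hK]))

/-- Uniqueness of the Sylow subgroup attached to `H`. -/
theorem sylow_unique_aux (P : Sylow p G) {a n : ℕ} (hP : Nat.card (P : Subgroup G) = p ^ n)
    {H Q : Subgroup G} (hH : Nat.card H = p ^ a) (hHP : ¬ H ≤ (P : Subgroup G))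
    (hQ : Nat.card Q = p ^ n) (hPQ : Nat.card ((P : Subgroup G) ⊓ Q : Subgroup G) = p ^ (n - 1))
    (hHQ : H ≤ Q) (hQN : Q ≤ Subgroup.normalizer (H : Set G)) :
    Q = H ⊔ ((P : Subgroup G) ⊓ Subgroup.normalizer (H : Set G)) := by
  have hpp : p.Prime := hp.out
  have hHp : IsPGroup p H := IsPGroup.of_card hH
  have hD : (P : Subgroup G) ⊓ Subgroup.normalizer (H : Set G) ≠ (P : Subgroup G) := by
    intro h
    exact hHP (le_sylow_of_le_normalizer P hHp (h ▸ inf_le_right))
  obtain ⟨i, hi, hDi⟩ := exists_pow_lt_of_ne (p := p) inf_le_left hD hP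
  have hle : (P : Subgroup G) ⊓ Q ≤ (P : Subgroup G) ⊓ Subgroup.normalizer (H : Set G) :=
    inf_le_inf_left _ hQN
  have heq : (P : Subgroup G) ⊓ Q = (P : Subgroup G) ⊓ Subgroup.normalizer (H : Set G) := by
    apply Subgroup.eq_of_le_of_card_ge hle
    rw [hDi, hPQ]
    exact Nat.pow_le_pow_right hpp.pos (by omega)
  rw [← heq]
  by_contra hne
  have hle2 : H ⊔ ((P : Subgroup G) ⊓ Q) ≤ Q := sup_le hHQ inf_le_right
  obtain ⟨j, hj, hcj⟩ := exists_pow_lt_of_ne (p := p) hle2 (fun h => hne h.symm) hQ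
  have hne2 : (P : Subgroup G) ⊓ Q ≠ H ⊔ ((P : Subgroup G) ⊓ Q) := by
    intro h
    apply hHP
    calc H ≤ H ⊔ ((P : Subgroup G) ⊓ Q) := le_sup_left
      _ = (P : Subgroup G) ⊓ Q := h.symm
      _ ≤ P := inf_le_left
  obtain ⟨i', hi', hci'⟩ := exists_pow_lt_of_ne (p := p) le_sup_right hne2 hcj
  rw [hPQ] at hci'
  have := Nat.pow_right_injective hpp.two_le hci'
  omega

/-- Existence of the Sylow subgroup attached to `H` when `N_P(H)` has index `p` in `P`. -/
theorem sylow_exists_aux (P : Sylow p G) {a n : ℕ} (hP : Nat.card (P : Subgroup G) = p ^ n)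
    (han : a < n)
    {H N : Subgroup G} (hH : Nat.card H = p ^ a) (hHP : ¬ H ≤ (P : Subgroup G))
    (hNP : N ≤ (P : Subgroup G)) (hN : Nat.card N = p ^ (n - 1))
    (hNH : N ≤ Subgroup.normalizer (H : Set G)) :
    ∃ Q : Subgroup G, (Nat.card Q = p ^ n ∧
      Nat.card ((P : Subgroup G) ⊓ Q : Subgroup G) = p ^ (n - 1)) ∧ H ≤ Q ∧
      Q ≤ Subgroup.normalizer (H : Set G) := by
  have hpp : p.Prime := hp.out
  have hHp : IsPGroup p H := IsPGroup.of_card hH
  have hNp : IsPGroup p N := IsPGroup.of_card hN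
  have hQp : IsPGroup p (H ⊔ N : Subgroup G) := IsPGroup.to_sup_of_normal_left' hHp hNp hNH
  have hdvd := card_dvd_of_isPGroup P hP hQp
  obtain ⟨m, hm, hQm⟩ := (Nat.dvd_prime_pow hpp).1 hdvd
  have hne : N ≠ H ⊔ N := by
    intro h
    apply hHP
    calc H ≤ H ⊔ N := le_sup_left
      _ = N := h.symm
      _ ≤ P := hNP
  obtain ⟨i, hi, hci⟩ := exists_pow_lt_of_ne (p := p) le_sup_right hne hQm
  rw [hN] at hci
  have hin := Nat.pow_right_injective hpp.two_le hci
  have hmn : m = n := by omega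
  subst hmn
  have hne3 : (P : Subgroup G) ⊓ (H ⊔ N) ≠ (P : Subgroup G) := by
    intro h
    have h1 : (P : Subgroup G) ≤ H ⊔ N := h ▸ inf_le_right
    have h2 : (P : Subgroup G) = H ⊔ N := Subgroup.eq_of_le_of_card_ge h1 (by rw [hQm, hP])
    apply hHP
    rw [h2]
    exact le_sup_left
  obtain ⟨k, hk, hck⟩ := exists_pow_lt_of_ne (p := p) inf_le_left hne3 hP
  have h4 : N ≤ (P : Subgroup G) ⊓ (H ⊔ N) := le_inf hNP le_sup_right
  have h5 := Subgroup.card_le_of_le h4
  rw [hN, hck] at h5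
  have h6 : m - 1 ≤ k := (Nat.pow_le_pow_iff_right hpp.one_lt).1 h5
  have hk' : k = m - 1 := by omega
  subst hk'
  exact ⟨H ⊔ N, ⟨hQm, hck⟩, le_sup_left, sup_le Subgroup.le_normalizer hNH⟩

end sylow

end Cfsg.Agent.Helper29.Kul
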