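import Mathlib
import Cfsg.Agent.Helper29.KulB

/-!
Counting maximal subgroups of a `p`-group containing a given subgroup, via homomorphisms to
the cyclic group of order `p`.
-/

set_option autoImplicit false

namespace Cfsg.Agent.Helper29.Kul

section hom

variable {P : Type*} [Group P] [Finite P] {p : ℕ} [hp : Fact p.Prime]

/-- Subgroups of index `p` in a `p`-group are maximal. -/
theorem eq_or_eq_top_of_card_pred {n : ℕ} (hn : 1 ≤ n) (hP : Nat.card P = p ^ n)
    {M K : Subgroup P} (hM : Nat.card M = p ^ (n - 1)) (hMK : M ≤ K) : K = M ∨ K = ⊤ := by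
  have hpp := hp.out
  by_cases hne : M = K
  · exact Or.inl hne.symm
  · right
    have h1 : Nat.card K ∣ p ^ n := hP ▸ Subgroup.card_subgroup_dvd_card K
    obtain ⟨j, hj, hKj⟩ := (Nat.dvd_prime_pow hpp).1 h1
    obtain ⟨i, hi, hMi⟩ := exists_pow_lt_of_ne (p := p) hMK hne hKj
    rw [hM] at hMi
    have := Nat.pow_right_injective hpp.two_le hMi
    have hjn : j = n := by omega
    rw [← Subgroup.card_eq_iff_eq_top, hKj, hP, hjn]

theorem card_mult_zmod : Nat.card (Multiplicative (ZMod p)) = p := by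
  rw [Nat.card_congr Multiplicative.toAdd, Nat.card_zmod]

/-- Homomorphisms to the cyclic group of order `p` vanishing on `K`. -/
def homSub (p : ℕ) (K : Subgroup P) : Subgroup (P →* Multiplicative (ZMod p)) where
  carrier := {f | K ≤ f.ker}
  one_mem' := by
    show K ≤ (1 : P →* Multiplicative (ZMod p)).ker
    intro x _
    exact MonoidHom.mem_ker.2 rfl
  mul_mem' := by
    intro f g hf hg
    show K ≤ (f * g).ker
    intro x hx
    have hf' : K ≤ f.ker := hf
    have hg' : K ≤ g.ker := hg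
    rw [MonoidHom.mem_ker, MonoidHom.mul_apply, MonoidHom.mem_ker.1 (hf' hx),
      MonoidHom.mem_ker.1 (hg' hx), one_mul]
  inv_mem' := by
    intro f hf
    show K ≤ (f⁻¹).ker
    intro x hx
    have hf' : K ≤ f.ker := hf
    rw [MonoidHom.mem_ker, MonoidHom.inv_apply, MonoidHom.mem_ker.1 (hf' hx), inv_one]

theorem card_homSub_pow (K : Subgroup P) :
    ∃ d, Nat.card {f : P →* Multiplicative (ZMod p) // K ≤ f.ker} = p ^ d := by
  haveI : Finite (P →* Multiplicative (ZMod p)) := DFunLike.finite _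
  have hPG : IsPGroup p (P →* Multiplicative (ZMod p)) := by
    intro f
    refine ⟨1, ?_⟩
    rw [pow_one]
    apply MonoidHom.ext
    intro x
    rw [MonoidHom.pow_apply, MonoidHom.one_apply]
    have := pow_card_eq_one' (G := Multiplicative (ZMod p)) (x := f x)
    rwa [card_mult_zmod] at this
  have h := IsPGroup.iff_card.1 (hPG.to_subgroup (homSub p K))
  exact h

theorem index_eq_of_card_pred {n : ℕ} (hn : 1 ≤ n) (hP : Nat.card P = p ^ n)
    {M : Subgroup P} (hM : Nat.card M = p ^ (n - 1)) : M.index = p := by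
  have hpp := hp.out
  have h1 := Subgroup.card_mul_index M
  rw [hM, hP] at h1
  have h2 : p ^ n = p ^ (n - 1) * p := by
    rw [← pow_succ]
    congr 1
    omega
  rw [h2] at h1
  exact Nat.eq_of_mul_eq_mul_left (pow_pos hpp.pos _) h1

theorem normal_of_card_pred {n : ℕ} (hn : 1 ≤ n) (hP : Nat.card P = p ^ n)
    {M : Subgroup P} (hM : Nat.card M = p ^ (n - 1)) : M.Normal := by
  have hpp := hp.out
  apply Subgroup.normal_of_index_eq_minFac_card
  rw [index_eq_of_card_pred hn hP hM, hP, hpp.pow_minFac (by omega)]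

theorem exists_hom_ker_eq {n : ℕ} (hn : 1 ≤ n) (hP : Nat.card P = p ^ n) {M : Subgroup P}
    (hM : Nat.card M = p ^ (n - 1)) : ∃ f : P →* Multiplicative (ZMod p), f.ker = M := by
  have hidx : M.index = p := index_eq_of_card_pred hn hP hM
  haveI hMn : M.Normal := normal_of_card_pred hn hP hM
  have hq : Nat.card (P ⧸ M) = p := by
    rw [← Subgroup.index_eq_card]
    exact hidx
  let e : P ⧸ M ≃* Multiplicative (ZMod p) := mulEquivOfPrimeCardEq hq card_mult_zmod
  refine ⟨e.toMonoidHom.comp (QuotientGroup.mk' M), ?_⟩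
  ext x
  rw [MonoidHom.mem_ker, MonoidHom.comp_apply, MulEquiv.coe_toMonoidHom,
    MulEquiv.map_eq_one_iff, QuotientGroup.mk'_apply, QuotientGroup.eq_one_iff]

theorem card_homSub_max {n : ℕ} (hn : 1 ≤ n) (hP : Nat.card P = p ^ n) {M : Subgroup P}
    (hM : Nat.card M = p ^ (n - 1)) :
    Nat.card {f : P →* Multiplicative (ZMod p) // M ≤ f.ker} = p := by
  have hpp := hp.out
  haveI : Finite (P →* Multiplicative (ZMod p)) := DFunLike.finite _
  obtain ⟨d, hd⟩ := card_homSub_pow (p := p) M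
  have hMtop : M ≠ ⊤ := by
    intro h
    rw [h, Subgroup.card_top, hP] at hM
    have := Nat.pow_right_injective hpp.two_le hM
    omega
  obtain ⟨x₀, hx₀⟩ : ∃ x₀ : P, x₀ ∉ M := by
    by_contra hcon
    simp only [not_exists, not_not] at hcon
    exact hMtop (eq_top_iff.2 (fun x _ => hcon x))
  have hle : Nat.card {f : P →* Multiplicative (ZMod p) // M ≤ f.ker} ≤ p := by
    refine le_of_le_of_eq ?_ (card_mult_zmod (p := p))
    apply Nat.card_le_card_of_injective
      (fun f : {f : P →* Multiplicative (ZMod p) // M ≤ f.ker} => f.1 x₀)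
    intro f g hfg
    apply Subtype.ext
    have hker : M ≤ (f.1 * g.1⁻¹).ker := by
      intro x hx
      rw [MonoidHom.mem_ker, MonoidHom.mul_apply, MonoidHom.inv_apply,
        MonoidHom.mem_ker.1 (f.2 hx), MonoidHom.mem_ker.1 (g.2 hx), inv_one, one_mul]
    have hx0 : x₀ ∈ (f.1 * g.1⁻¹).ker := by
      rw [MonoidHom.mem_ker, MonoidHom.mul_apply, MonoidHom.inv_apply]
      have h1 : f.1 x₀ = g.1 x₀ := hfg
      rw [h1, mul_inv_cancel]
    rcases eq_or_eq_top_of_card_pred hn hP hM hker with h | h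
    · exact absurd (h ▸ hx0) hx₀
    · have h1 : f.1 * g.1⁻¹ = 1 := MonoidHom.ker_eq_top_iff.1 h
      exact mul_inv_eq_one.1 h1
  obtain ⟨f₀, hf₀⟩ := exists_hom_ker_eq hn hP hM
  have hge : 1 < Nat.card {f : P →* Multiplicative (ZMod p) // M ≤ f.ker} := by
    rw [Finite.one_lt_card_iff_nontrivial]
    refine ⟨⟨⟨f₀, hf₀.ge⟩, ⟨1, fun x _ => MonoidHom.mem_ker.2 rfl⟩, ?_⟩⟩
    intro h
    have h1 : f₀ = 1 := congrArg Subtype.val h
    rw [h1, MonoidHom.ker_one] at hf₀
    exact hMtop hf₀.symm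
  rw [hd] at hle hge ⊢
  have hd1 : d = 1 := by
    rcases d with _ | _ | d
    · simp at hge
    · rfl
    · exfalso
      have h1 : p ^ 2 ≤ p ^ (d + 1 + 1) := Nat.pow_le_pow_right hpp.pos (by omega)
      have h2 : p < p ^ 2 := by nlinarith [hpp.two_le]
      omega
  rw [hd1, pow_one]

/-- The number of subgroups of order `p ^ (n - 1)` containing `H`. -/
noncomputable def mu1 (P : Type*) [Group P] (p n : ℕ) (H : Subgroup P) : ℕ :=
  Nat.card {M : Subgroup P // Nat.card M = p ^ (n - 1) ∧ H ≤ M}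

theorem mu1_hom_count {n : ℕ} (hn : 1 ≤ n) (hP : Nat.card P = p ^ n) (H : Subgroup P) :
    ∃ d, mu1 P p n H * (p - 1) + 1 = p ^ d := by
  classical
  have hpp := hp.out
  haveI : Finite (P →* Multiplicative (ZMod p)) := DFunLike.finite _
  haveI : Fintype (P →* Multiplicative (ZMod p)) := Fintype.ofFinite _
  haveI : Fintype (Subgroup P) := Fintype.ofFinite _
  have ha : ∀ K : Subgroup P, Nat.card {f : P →* Multiplicative (ZMod p) // K ≤ f.ker} =
      Nat.card {f : P →* Multiplicative (ZMod p) // K ≤ f.ker ∧ ¬ f = 1} + 1 := by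
    intro K
    rw [card_subtype_split (fun f : P →* Multiplicative (ZMod p) => K ≤ f.ker) (fun f => f = 1),
      add_comm]
    congr 1
    rw [Nat.card_eq_one_iff_unique]
    refine ⟨⟨?_⟩, ⟨⟨1, fun x _ => MonoidHom.mem_ker.2 rfl, rfl⟩⟩⟩
    rintro ⟨f, _, hf⟩ ⟨g, _, hg⟩
    exact Subtype.ext (hf.trans hg.symm)
  have hb : ∀ M : Subgroup P, Nat.card M = p ^ (n - 1) →
      Nat.card {f : P →* Multiplicative (ZMod p) // M ≤ f.ker ∧ ¬ f = 1} = p - 1 := by
    intro M hM
    have h1 := ha M
    rw [card_homSub_max hn hP hM] at h1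
    omega
  have hmaps : Set.MapsTo (MonoidHom.ker : (P →* Multiplicative (ZMod p)) → Subgroup P)
      (↑(Finset.univ.filter (fun f : P →* Multiplicative (ZMod p) => H ≤ f.ker ∧ ¬ f = 1)))
      (↑(Finset.univ.filter (fun M : Subgroup P => Nat.card M = p ^ (n - 1) ∧ H ≤ M))) := by
    intro f hf
    rw [Finset.mem_coe, Finset.mem_filter] at hf ⊢
    refine ⟨Finset.mem_univ _, ?_, hf.2.1⟩
    have hidx : f.ker.index = p := by
      have h1 : f.ker.index ∣ p := by
        have h0 := Subgroup.card_subgroup_dvd_card f.range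
        rw [card_mult_zmod] at h0
        rw [Subgroup.index_ker]
        exact h0
      rcases (Nat.dvd_prime hpp).1 h1 with h | h
      · exfalso
        rw [Subgroup.index_eq_one] at h
        exact hf.2.2 (MonoidHom.ker_eq_top_iff.1 h)
      · exact h
    have h2 := Subgroup.card_mul_index f.ker
    rw [hidx, hP] at h2
    have h3 : p ^ n = p ^ (n - 1) * p := by
      rw [← pow_succ]
      congr 1
      omega
    rw [h3] at h2
    exact Nat.eq_of_mul_eq_mul_right hpp.pos h2
  have hfib : ∀ M ∈ Finset.univ.filter (fun M : Subgroup P => Nat.card M = p ^ (n - 1) ∧ H ≤ M),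
      ((Finset.univ.filter (fun f : P →* Multiplicative (ZMod p) => H ≤ f.ker ∧ ¬ f = 1)).filter
        (fun f => MonoidHom.ker f = M)).card = p - 1 := by
    intro M hM
    rw [Finset.mem_filter] at hM
    rw [← hb M hM.2.1, natCard_subtype_eq_filter, Finset.filter_filter]
    congr 1
    apply Finset.filter_congr
    intro f _
    constructor
    · rintro ⟨⟨_, hf1⟩, hfM⟩
      exact ⟨hfM.ge, hf1⟩
    · rintro ⟨hMf, hf1⟩
      rcases eq_or_eq_top_of_card_pred hn hP hM.2.1 hMf with h | h
      · exact ⟨⟨h ▸ hM.2.2, hf1⟩, h⟩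
      · exact absurd (MonoidHom.ker_eq_top_iff.1 h) hf1
  have hc : Nat.card {f : P →* Multiplicative (ZMod p) // H ≤ f.ker ∧ ¬ f = 1} =
      mu1 P p n H * (p - 1) := by
    unfold mu1
    rw [natCard_subtype_eq_filter, natCard_subtype_eq_filter]
    refine (Finset.card_eq_sum_card_fiberwise hmaps).trans ?_
    refine (Finset.sum_congr rfl hfib).trans ?_
    rw [Finset.sum_const, smul_eq_mul]
  obtain ⟨d, hd⟩ := card_homSub_pow (p := p) H
  refine ⟨d, ?_⟩
  rw [← hd, ha H, hc]

theorem mu1_modEq_one {n : ℕ} (hn : 1 ≤ n) (hP : Nat.card P = p ^ n) (H : Subgroup P)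
    (h1 : 1 ≤ mu1 P p n H) : mu1 P p n H ≡ 1 [MOD p] := by
  have hpp := hp.out
  obtain ⟨d, hd⟩ := mu1_hom_count hn hP H
  have hp1 : 1 ≤ p - 1 := by have := hpp.two_le; omega
  have e : mu1 P p n H * p + 1 = p ^ d + mu1 P p n H := by
    have h2 : mu1 P p n H * (p - 1) + mu1 P p n H = mu1 P p n H * p := by
      rw [← Nat.mul_succ]
      congr 1
      have := hpp.two_le
      omega
    omega
  rcases d with _ | d
  · exfalso
    rw [pow_zero] at hd
    have h3 : mu1 P p n H * (p - 1) = 0 := by omega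
    rcases Nat.mul_eq_zero.1 h3 with h | h <;> omega
  · rw [pow_succ, mul_comm (p ^ d) p] at e
    unfold Nat.ModEq
    rw [← Nat.mul_add_mod_self_left p (p ^ d) (mu1 P p n H), ← e, Nat.mul_add_mod_self_right]

theorem mu1_modEq_one_add {n : ℕ} (hn : 1 ≤ n) (hP : Nat.card P = p ^ n) (H : Subgroup P)
    (h2 : 2 ≤ mu1 P p n H) : mu1 P p n H ≡ 1 + p [MOD p ^ 2] := by
  have hpp := hp.out
  have hmod := mu1_modEq_one hn hP H (by omega)
  obtain ⟨d, hd⟩ := mu1_hom_count hn hP H
  have hp1 : 1 ≤ p - 1 := by have := hpp.two_le; omega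
  have e : mu1 P p n H * p + 1 = p ^ d + mu1 P p n H := by
    have h3 : mu1 P p n H * (p - 1) + mu1 P p n H = mu1 P p n H * p := by
      rw [← Nat.mul_succ]
      congr 1
      have := hpp.two_le
      omega
    omega
  have hk : mu1 P p n H = p * (mu1 P p n H / p) + 1 := by
    have h4 := Nat.div_add_mod (mu1 P p n H) p
    have h5 : mu1 P p n H % p = 1 := by
      have h6 : mu1 P p n H % p = 1 % p := hmod
      rw [h6]
      exact Nat.mod_eq_of_lt hpp.one_lt
    omega
  rcases d with _ | _ | d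
  · exfalso
    rw [pow_zero] at hd
    have h3 : mu1 P p n H * (p - 1) = 0 := by omega
    rcases Nat.mul_eq_zero.1 h3 with h | h <;> omega
  · exfalso
    rw [zero_add, pow_one] at hd
    have h3 : mu1 P p n H * (p - 1) = 1 * (p - 1) := by
      have := hpp.two_le
      omega
    have h4 := Nat.eq_of_mul_eq_mul_right (by omega : 0 < p - 1) h3
    omega
  · have e2 : p ^ 2 * p ^ d + mu1 P p n H = p ^ 2 * (mu1 P p n H / p) + (1 + p) := by
      have h7 : p ^ (d + 1 + 1) = p ^ 2 * p ^ d := by ring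
      rw [h7] at e
      rw [← e]
      generalize mu1 P p n H / p = k at hk
      rw [hk]
      ring
    unfold Nat.ModEq
    rw [← Nat.mul_add_mod_self_left (p ^ 2) (p ^ d) (mu1 P p n H), e2, Nat.mul_add_mod_self_left]

end hom

end Cfsg.Agent.Helper29.Kul
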