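import Mathlib
import Cfsg.Agent.Helper29.KulD
import Cfsg.Agent.Helper24.CyclicMax
import Cfsg.Agent.Helper21.UniqueSub

/-!
Kulakoff's theorem: in a non-cyclic `p`-group of order `p ^ n`, `p` odd, the number of subgroups
of order `p ^ a`, `1 ≤ a < n`, is congruent to `1 + p` modulo `p ^ 2`.
-/

set_option autoImplicit false

namespace Cfsg.Agent.Helper29.Kul

universe u

theorem sum_modEq {ι : Type*} (s : Finset ι) (f g : ι → ℕ) (m : ℕ)
    (h : ∀ i ∈ s, f i ≡ g i [MOD m]) : ∑ i ∈ s, f i ≡ ∑ i ∈ s, g i [MOD m] := by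
  classical
  induction s using Finset.induction_on with
  | empty => exact Nat.ModEq.refl _
  | insert i s hi ih =>
    rw [Finset.sum_insert hi, Finset.sum_insert hi]
    exact Nat.ModEq.add (h i (Finset.mem_insert_self i s))
      (ih (fun j hj => h j (Finset.mem_insert_of_mem hj)))

/-- The number of subgroups of order `p ^ (n - 2)` containing `H` and contained in at least two
subgroups of order `p ^ (n - 1)`. -/
noncomputable def mu2 (P : Type*) [Group P] (p n : ℕ) (H : Subgroup P) : ℕ :=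
  Nat.card {K : Subgroup P // (Nat.card K = p ^ (n - 2) ∧ H ≤ K) ∧ 2 ≤ mu1 P p n K}

section kul

variable {P : Type u} [Group P] [Finite P] {p : ℕ} [hp : Fact p.Prime]

theorem card_inf_of_ne {n : ℕ} (hn : 2 ≤ n) (hP : Nat.card P = p ^ n) {M₁ M₂ : Subgroup P}
    (h1 : Nat.card M₁ = p ^ (n - 1)) (h2 : Nat.card M₂ = p ^ (n - 1)) (hne : M₁ ≠ M₂) :
    Nat.card (M₁ ⊓ M₂ : Subgroup P) = p ^ (n - 2) := by
  have hpp := hp.out
  have hne' : M₁ ⊓ M₂ ≠ M₁ := by
    intro h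
    have hle : M₁ ≤ M₂ := h ▸ inf_le_right
    exact hne (Subgroup.eq_of_le_of_card_ge hle (by rw [h1, h2]))
  obtain ⟨i, hi, hci⟩ := exists_pow_lt_of_ne (p := p) inf_le_left hne' h1
  have hidx : (M₁ ⊓ M₂).index ≤ p * p := by
    have h0 := Subgroup.index_inf_le (H := M₁) (K := M₂)
    rwa [index_eq_of_card_pred (by omega) hP h1, index_eq_of_card_pred (by omega) hP h2] at h0
  have h3 := Subgroup.card_mul_index (M₁ ⊓ M₂)
  rw [hci, hP] at h3
  have h4 : p ^ n ≤ p ^ (i + 2) := by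
    rw [← h3, pow_add, pow_two]
    exact Nat.mul_le_mul_left _ hidx
  have h5 : n ≤ i + 2 := (Nat.pow_le_pow_iff_right hpp.one_lt).1 h4
  have h6 : i = n - 2 := by omega
  rw [hci, h6]

theorem mu2_key {n : ℕ} (hn : 2 ≤ n) (hP : Nat.card P = p ^ n) (H : Subgroup P) :
    (2 ≤ mu1 P p n H → p * mu2 P p n H ≡ p [MOD p ^ 2]) ∧
      (mu1 P p n H ≤ 1 → mu2 P p n H = 0) := by
  classical
  have hpp := hp.out
  haveI : Fintype (Subgroup P) := Fintype.ofFinite _
  obtain ⟨MM, hMM_mem, hMM_card⟩ : ∃ MM : Subgroup P → Finset (Subgroup P),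
      (∀ K M, M ∈ MM K ↔ (Nat.card M = p ^ (n - 1) ∧ K ≤ M)) ∧
      (∀ K, (MM K).card = mu1 P p n K) :=
    ⟨fun K => Finset.univ.filter (fun M => Nat.card M = p ^ (n - 1) ∧ K ≤ M),
      fun K M => by simp, fun K => (natCard_subtype_eq_filter _).symm⟩
  have hq : ∀ K, (MM K).offDiag.card + mu1 P p n K = mu1 P p n K * mu1 P p n K := by
    intro K
    rw [Finset.offDiag_card, hMM_card]
    exact Nat.sub_add_cancel (Nat.le_mul_self _)
  have hq2 : ∀ K, 2 ≤ mu1 P p n K → (MM K).offDiag.card ≡ p [MOD p ^ 2] := by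
    intro K hK
    have h1 := mu1_modEq_one_add (by omega) hP K hK
    have h2 := hq K
    generalize mu1 P p n K = μ at h1 h2
    generalize (MM K).offDiag.card = qq at h2 ⊢
    have h3 : (1 + p) % p ^ 2 = 1 + p := Nat.mod_eq_of_lt (by nlinarith [hpp.two_le])
    have h4 : μ = p ^ 2 * (μ / p ^ 2) + (1 + p) := by
      have h5 := Nat.div_add_mod μ (p ^ 2)
      have h6 : μ % p ^ 2 = (1 + p) % p ^ 2 := h1
      rw [h6, h3] at h5
      exact h5.symm
    generalize μ / p ^ 2 = t at h4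
    have h7 : qq + μ = (p ^ 2 * (t * (p ^ 2 * t + p) + t * (1 + p) + 1) + p) + μ := by
      rw [h2, h4]
      ring
    have h8 := Nat.add_right_cancel h7
    rw [h8]
    unfold Nat.ModEq
    rw [Nat.mul_add_mod_self_left]
  have hq1 : ∀ K, mu1 P p n K ≤ 1 → (MM K).offDiag.card = 0 := by
    intro K hK
    have h2 := hq K
    have h3 : mu1 P p n K * mu1 P p n K ≤ mu1 P p n K :=
      calc mu1 P p n K * mu1 P p n K ≤ 1 * mu1 P p n K := Nat.mul_le_mul_right _ hK
        _ = mu1 P p n K := one_mul _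
    omega
  obtain ⟨KK, hKK_mem⟩ : ∃ KK : Finset (Subgroup P),
      ∀ K, K ∈ KK ↔ (Nat.card K = p ^ (n - 2) ∧ H ≤ K) :=
    ⟨Finset.univ.filter (fun K => Nat.card K = p ^ (n - 2) ∧ H ≤ K), fun K => by simp⟩
  have hmaps : Set.MapsTo (fun x : Subgroup P × Subgroup P => x.1 ⊓ x.2)
      ↑(MM H).offDiag ↑KK := by
    intro x hx
    rw [Finset.mem_coe, Finset.mem_offDiag, hMM_mem, hMM_mem] at hx
    obtain ⟨hx1, hx2, hne⟩ := hx
    rw [Finset.mem_coe, hKK_mem]
    exact ⟨card_inf_of_ne hn hP hx1.1 hx2.1 hne, le_inf hx1.2 hx2.2⟩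
  have hfib : ∀ K ∈ KK, ((MM H).offDiag.filter
      (fun x : Subgroup P × Subgroup P => x.1 ⊓ x.2 = K)).card = (MM K).offDiag.card := by
    intro K hK
    rw [hKK_mem] at hK
    congr 1
    ext x
    simp only [Finset.mem_filter, Finset.mem_offDiag, hMM_mem]
    constructor
    · rintro ⟨⟨⟨h1, _⟩, ⟨h2, _⟩, hne⟩, hK'⟩
      exact ⟨⟨h1, (le_of_eq hK'.symm).trans inf_le_left⟩,
        ⟨h2, (le_of_eq hK'.symm).trans inf_le_right⟩, hne⟩
    · rintro ⟨⟨h1, hK1⟩, ⟨h2, hK2⟩, hne⟩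
      refine ⟨⟨⟨h1, hK.2.trans hK1⟩, ⟨h2, hK.2.trans hK2⟩, hne⟩, ?_⟩
      symm
      apply Subgroup.eq_of_le_of_card_ge (le_inf hK1 hK2)
      rw [card_inf_of_ne hn hP h1 h2 hne, hK.1]
  have hsum : (MM H).offDiag.card = ∑ K ∈ KK, (MM K).offDiag.card :=
    (Finset.card_eq_sum_card_fiberwise hmaps).trans (Finset.sum_congr rfl hfib)
  have hsum2 : ∑ K ∈ KK, (MM K).offDiag.card ≡
      ∑ K ∈ KK, (if 2 ≤ mu1 P p n K then p else 0) [MOD p ^ 2] := by
    apply sum_modEq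
    intro K _
    by_cases h : 2 ≤ mu1 P p n K
    · rw [if_pos h]
      exact hq2 K h
    · rw [if_neg h, hq1 K (by omega)]
  have hsum3 : ∑ K ∈ KK, (if 2 ≤ mu1 P p n K then p else 0) = p * mu2 P p n H := by
    rw [Finset.sum_ite, Finset.sum_const_zero, add_zero, Finset.sum_const, smul_eq_mul,
      mul_comm p]
    congr 1
    unfold mu2
    rw [natCard_subtype_eq_filter]
    congr 1
    ext K
    simp only [Finset.mem_filter, Finset.mem_univ, true_and, hKK_mem]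
  constructor
  · intro h2
    rw [← hsum3]
    exact hsum2.symm.trans (hsum ▸ hq2 H h2)
  · intro h1
    have h0 := hq1 H h1
    rw [hsum, Finset.sum_eq_zero_iff] at h0
    have h5 : ∑ K ∈ KK, (if 2 ≤ mu1 P p n K then p else 0) = 0 := by
      apply Finset.sum_eq_zero
      intro K hK
      have h6 := h0 K hK
      have h7 := hq K
      rw [h6, zero_add] at h7
      have h8 : ¬ 2 ≤ mu1 P p n K := by
        intro h9
        nlinarith
      rw [if_neg h8]
    rw [hsum3] at h5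
    rcases Nat.mul_eq_zero.1 h5 with h | h
    · exact absurd h hpp.pos.ne'
    · exact h

theorem mu1_modEq_mu2 {n : ℕ} (hn : 2 ≤ n) (hP : Nat.card P = p ^ n) (H : Subgroup P)
    (h1 : 1 ≤ mu1 P p n H) : mu1 P p n H ≡ 1 + p * mu2 P p n H [MOD p ^ 2] := by
  obtain ⟨k1, k2⟩ := mu2_key hn hP H
  rcases Nat.lt_or_ge (mu1 P p n H) 2 with h | h
  · have h3 : mu1 P p n H = 1 := by omega
    rw [k2 (by omega), h3, mul_zero, add_zero]
  · exact (mu1_modEq_one_add (by omega) hP H h).trans (Nat.ModEq.add_left 1 (k1 h).symm)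

theorem mu2_modEq_one {n : ℕ} (hn : 2 ≤ n) (hP : Nat.card P = p ^ n) (H : Subgroup P)
    (h2 : 2 ≤ mu1 P p n H) : mu2 P p n H ≡ 1 [MOD p] := by
  have hpp := hp.out
  obtain ⟨k1, _⟩ := mu2_key hn hP H
  have h3 : p * mu2 P p n H ≡ p * 1 [MOD p * p] := by
    rw [mul_one, ← pow_two]
    exact k1 h2
  exact Nat.ModEq.mul_left_cancel' hpp.pos.ne' h3

end kul

end Cfsg.Agent.Helper29.Kul
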