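import Mathlib
import Cfsg.Agent.Helper29.KulE

/-!
Kulakoff's theorem (induction step and statement).
-/

set_option autoImplicit false

namespace Cfsg.Agent.Helper29.Kul

universe u

section kul

variable {P : Type u} [Group P] [Finite P] {p : ℕ} [hp : Fact p.Prime]

theorem kulakoff_step {n : ℕ} (hp2 : p ≠ 2) (hP : Nat.card P = p ^ n) (hnc : ¬ IsCyclic P)
    (ih : ∀ (M : Subgroup P), Nat.card M = p ^ (n - 1) → ¬ IsCyclic M → ∀ a, 1 ≤ a → a < n - 1 →
      Nat.card {H : Subgroup M // Nat.card H = p ^ a} ≡ 1 + p [MOD p ^ 2])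
    (a : ℕ) (ha : 1 ≤ a) (han : a < n) :
    Nat.card {H : Subgroup P // Nat.card H = p ^ a} ≡ 1 + p [MOD p ^ 2] := by
  classical
  have hpp := hp.out
  haveI : Fintype (Subgroup P) := Fintype.ofFinite _
  have hn2 : 2 ≤ n := by omega
  have hbot2 : 2 ≤ mu1 P p n ⊥ := by
    by_contra hlt
    apply hnc
    apply Helper21.isCyclic_of_unique_subgroup_card_pow p n (n - 1) hpp hP (by omega) (by omega)
      (Or.inl hp2)
    intro M₁ M₂ h1 h2
    have hsub : Subsingleton {M : Subgroup P // Nat.card M = p ^ (n - 1) ∧ ⊥ ≤ M} := by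
      rw [← Finite.card_le_one_iff_subsingleton]
      unfold mu1 at hlt
      omega
    have h3 := hsub.elim ⟨M₁, h1, bot_le⟩ ⟨M₂, h2, bot_le⟩
    exact congrArg Subtype.val h3
  have hbot : mu1 P p n ⊥ ≡ 1 + p [MOD p ^ 2] := mu1_modEq_one_add (by omega) hP ⊥ hbot2
  obtain ⟨MM, hMM_mem, hMM_card⟩ : ∃ MM : Finset (Subgroup P),
      (∀ M, M ∈ MM ↔ Nat.card M = p ^ (n - 1)) ∧ MM.card = mu1 P p n ⊥ := by
    refine ⟨Finset.univ.filter (fun M => Nat.card M = p ^ (n - 1)), fun M => by simp, ?_⟩
    unfold mu1
    rw [natCard_subtype_eq_filter]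
    congr 1
    apply Finset.filter_congr
    intro M _
    simp
  by_cases han1 : a = n - 1
  · subst han1
    have h1 : Nat.card {H : Subgroup P // Nat.card H = p ^ (n - 1)} = mu1 P p n ⊥ := by
      unfold mu1
      apply Nat.card_congr
      exact Equiv.subtypeEquivRight (fun M => by simp)
    rw [h1]
    exact hbot
  · have han2 : a ≤ n - 2 := by omega
    have hn3 : 3 ≤ n := by omega
    obtain ⟨S, hS_mem, hS_card⟩ : ∃ S : Finset (Subgroup P),
        (∀ H, H ∈ S ↔ Nat.card H = p ^ a) ∧
        S.card = Nat.card {H : Subgroup P // Nat.card H = p ^ a} :=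
      ⟨Finset.univ.filter (fun H => Nat.card H = p ^ a), fun H => by simp,
        (natCard_subtype_eq_filter _).symm⟩
    obtain ⟨K2, hK2_mem, hK2_card⟩ : ∃ K2 : Finset (Subgroup P),
        (∀ K, K ∈ K2 ↔ (Nat.card K = p ^ (n - 2) ∧ 2 ≤ mu1 P p n K)) ∧
        K2.card = mu2 P p n ⊥ := by
      refine ⟨Finset.univ.filter (fun K => Nat.card K = p ^ (n - 2) ∧ 2 ≤ mu1 P p n K),
        fun K => by simp, ?_⟩
      unfold mu2
      rw [natCard_subtype_eq_filter]
      congr 1
      apply Finset.filter_congr
      intro K _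
      simp
    have hmu1 : ∀ H : Subgroup P, mu1 P p n H = (MM.filter (fun M => H ≤ M)).card := by
      intro H
      unfold mu1
      rw [natCard_subtype_eq_filter]
      congr 1
      ext M
      simp only [Finset.mem_filter, Finset.mem_univ, true_and, hMM_mem]
    have hmu2 : ∀ H : Subgroup P, mu2 P p n H = (K2.filter (fun K => H ≤ K)).card := by
      intro H
      unfold mu2
      rw [natCard_subtype_eq_filter]
      congr 1
      ext K
      simp only [Finset.mem_filter, Finset.mem_univ, true_and, hK2_mem]
      tauto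
    have hT : ∀ (T : Subgroup P), (S.filter (fun H => H ≤ T)).card =
        Nat.card {H' : Subgroup T // Nat.card H' = p ^ a} := by
      intro T
      rw [← card_subgroups_le_eq T (fun H : Subgroup P => Nat.card H = p ^ a)
        (fun H' => Nat.card H' = p ^ a) (fun H hH => by rw [card_subgroupOf_of_le hH]),
        natCard_subtype_eq_filter]
      congr 1
      ext H
      simp only [Finset.mem_filter, Finset.mem_univ, true_and, hS_mem]
      tauto
    have hdc1 : ∑ H ∈ S, mu1 P p n H =
        ∑ M ∈ MM, Nat.card {H' : Subgroup M // Nat.card H' = p ^ a} :=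
      calc ∑ H ∈ S, mu1 P p n H = ∑ H ∈ S, (MM.filter (fun M => H ≤ M)).card :=
            Finset.sum_congr rfl (fun H _ => hmu1 H)
        _ = ∑ M ∈ MM, (S.filter (fun H => H ≤ M)).card :=
            Finset.sum_card_bipartiteAbove_eq_sum_card_bipartiteBelow
              (fun H M : Subgroup P => H ≤ M)
        _ = ∑ M ∈ MM, Nat.card {H' : Subgroup M // Nat.card H' = p ^ a} :=
            Finset.sum_congr rfl (fun M _ => hT M)
    have hdc2 : ∑ H ∈ S, mu2 P p n H =
        ∑ K ∈ K2, Nat.card {H' : Subgroup K // Nat.card H' = p ^ a} :=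
      calc ∑ H ∈ S, mu2 P p n H = ∑ H ∈ S, (K2.filter (fun K => H ≤ K)).card :=
            Finset.sum_congr rfl (fun H _ => hmu2 H)
        _ = ∑ K ∈ K2, (S.filter (fun H => H ≤ K)).card :=
            Finset.sum_card_bipartiteAbove_eq_sum_card_bipartiteBelow
              (fun H M : Subgroup P => H ≤ M)
        _ = ∑ K ∈ K2, Nat.card {H' : Subgroup K // Nat.card H' = p ^ a} :=
            Finset.sum_congr rfl (fun K _ => hT K)
    have hS1 : ∀ H ∈ S, 1 ≤ mu1 P p n H := by
      intro H hH
      rw [hS_mem] at hH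
      obtain ⟨M, hM, hHM⟩ := Sylow.exists_subgroup_card_pow_prime_le p
        (show p ^ (n - 1) ∣ Nat.card P by rw [hP]; exact pow_dvd_pow p (by omega)) H hH
        (by omega : a ≤ n - 1)
      unfold mu1
      rw [Nat.succ_le_iff, Nat.card_pos_iff]
      exact ⟨⟨⟨M, hM, hHM⟩⟩, inferInstance⟩
    have hkey : ∑ H ∈ S, mu1 P p n H ≡ S.card + p * ∑ H ∈ S, mu2 P p n H [MOD p ^ 2] := by
      have h1 : ∑ H ∈ S, mu1 P p n H ≡ ∑ H ∈ S, (1 + p * mu2 P p n H) [MOD p ^ 2] :=
        sum_modEq S _ _ _ (fun H hH => mu1_modEq_mu2 hn2 hP H (hS1 H hH))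
      rw [Finset.sum_add_distrib, Finset.sum_const, smul_eq_mul, mul_one, ← Finset.mul_sum] at h1
      exact h1
    rw [hdc1, hdc2, hS_card] at hkey
    have hK2sum : p * ∑ K ∈ K2, Nat.card {H' : Subgroup K // Nat.card H' = p ^ a} ≡
        p [MOD p ^ 2] := by
      have h1 : ∑ K ∈ K2, Nat.card {H' : Subgroup K // Nat.card H' = p ^ a} ≡
          ∑ K ∈ K2, 1 [MOD p] := by
        apply sum_modEq
        intro K hK
        rw [hK2_mem] at hK
        apply Helper21.card_subgroups_modEq_one p a hpp
        rw [hK.1]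
        exact pow_dvd_pow p han2
      rw [Finset.sum_const, smul_eq_mul, mul_one, hK2_card] at h1
      have h2 := h1.trans (mu2_modEq_one hn2 hP ⊥ hbot2)
      have h3 := Nat.ModEq.mul_left' p h2
      rw [mul_one, ← pow_two] at h3
      exact h3
    have hMMsum : ∑ M ∈ MM, Nat.card {H' : Subgroup M // Nat.card H' = p ^ a} +
        p * (MM.filter (fun M : Subgroup P => IsCyclic M)).card ≡
        MM.card * (1 + p) [MOD p ^ 2] := by
      have h1 : ∑ M ∈ MM, (Nat.card {H' : Subgroup M // Nat.card H' = p ^ a} +
          (if IsCyclic M then p else 0)) ≡ ∑ M ∈ MM, (1 + p) [MOD p ^ 2] := by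
        apply sum_modEq
        intro M hM
        rw [hMM_mem] at hM
        by_cases hc : IsCyclic M
        · rw [if_pos hc]
          have h2 := Helper21.cyclic_card_subgroups_eq_one (C := M) p a hpp
            (by rw [hM]; exact pow_dvd_pow p (by omega))
          rw [h2]
        · rw [if_neg hc, add_zero]
          exact ih M hM hc a ha (by omega)
      rw [Finset.sum_add_distrib, Finset.sum_const, smul_eq_mul, Finset.sum_ite,
        Finset.sum_const_zero, add_zero, Finset.sum_const, smul_eq_mul, mul_comm _ p] at h1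
      exact h1
    have hcyc : p ∣ (MM.filter (fun M : Subgroup P => IsCyclic M)).card := by
      by_cases hex : ∃ M₀ ∈ MM, IsCyclic M₀
      · obtain ⟨M₀, hM₀, hM₀c⟩ := hex
        rw [hMM_mem] at hM₀
        obtain ⟨K₀, hK₀, hK₀card⟩ := Helper24.omega_of_cyclic_index_p hp2 (IsPGroup.of_card hP)
          hnc M₀ hM₀c (index_eq_of_card_pred (by omega) hP hM₀)
        have hchar : ∀ M ∈ MM, (IsCyclic M ↔ ¬ K₀ ≤ M) := by
          intro M hM
          rw [hMM_mem] at hM
          constructor
          · intro hc hle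
            haveI := hc
            haveI : Fintype M := Fintype.ofFinite _
            have h1 := IsCyclic.card_pow_eq_one_le (α := M) (n := p) hpp.pos
            have hmap : ∀ y : K₀, (⟨y.1, hle y.2⟩ : M) ^ p = 1 := by
              intro y
              apply Subtype.ext
              rw [Subgroup.coe_pow, Subgroup.coe_one]
              exact (hK₀ y.1).1 y.2
            have h2 : Nat.card K₀ ≤ (Finset.univ.filter (fun x : M => x ^ p = 1)).card := by
              rw [← natCard_subtype_eq_filter]
              apply Nat.card_le_card_of_injective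
                (fun y : K₀ => (⟨⟨y.1, hle y.2⟩, hmap y⟩ : {x : M // x ^ p = 1}))
              intro y₁ y₂ h
              apply Subtype.ext
              have h3 := congrArg (fun z : {x : M // x ^ p = 1} => (z.1 : P)) h
              exact h3
            rw [hK₀card] at h2
            have h4 : p < p ^ 2 := by nlinarith [hpp.two_le]
            omega
          · intro hnle
            apply Helper21.isCyclic_of_unique_subgroup_card_pow p (n - 1) 1 hpp hM le_rfl
              (by omega) (Or.inl hp2)
            have hne : K₀ ⊓ M ≠ K₀ := fun h => hnle (h ▸ inf_le_right)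
            obtain ⟨i, hi, hci⟩ := exists_pow_lt_of_ne (p := p) inf_le_left hne hK₀card
            have huniq : ∀ L : Subgroup M, Nat.card L = p ^ 1 → L.map M.subtype = K₀ ⊓ M := by
              intro L hL
              have hle : L.map M.subtype ≤ K₀ ⊓ M := by
                rintro _ ⟨x, hx, rfl⟩
                rw [Subgroup.mem_inf]
                refine ⟨?_, x.2⟩
                rw [hK₀]
                have h1 := pow_card_eq_one' (G := L) (x := ⟨x, hx⟩)
                rw [hL, pow_one] at h1
                have h2 := congrArg (fun z : L => ((z : M) : P)) h1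
                simpa using h2
              have h3 := Subgroup.card_le_of_le hle
              rw [Subgroup.card_subtype, hL, hci] at h3
              have h4 : 1 ≤ i := (Nat.pow_le_pow_iff_right hpp.one_lt).1 h3
              have h5 : i = 1 := by omega
              apply Subgroup.eq_of_le_of_card_ge hle
              rw [Subgroup.card_subtype, hL, hci, h5]
            intro L₁ L₂ h1 h2
            exact Subgroup.map_injective M.subtype_injective
              ((huniq L₁ h1).trans (huniq L₂ h2).symm)
        have h1 : (MM.filter (fun M : Subgroup P => IsCyclic M)).card =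
            (MM.filter (fun M => ¬ K₀ ≤ M)).card := by
          congr 1
          apply Finset.filter_congr
          exact hchar
        have h2 : (MM.filter (fun M => K₀ ≤ M)).card + (MM.filter (fun M => ¬ K₀ ≤ M)).card =
            MM.card := Finset.card_filter_add_card_filter_not (s := MM) (fun M => K₀ ≤ M)
        rw [h1]
        have h3 : mu1 P p n K₀ ≡ 1 [MOD p] := by
          apply mu1_modEq_one (by omega) hP
          obtain ⟨M, hM, hKM⟩ := Sylow.exists_subgroup_card_pow_prime_le p
            (show p ^ (n - 1) ∣ Nat.card P by rw [hP]; exact pow_dvd_pow p (by omega)) K₀ hK₀card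
            (by omega : 2 ≤ n - 1)
          unfold mu1
          rw [Nat.succ_le_iff, Nat.card_pos_iff]
          exact ⟨⟨⟨M, hM, hKM⟩⟩, inferInstance⟩
        have h4 : mu1 P p n ⊥ ≡ 1 [MOD p] := mu1_modEq_one (by omega) hP ⊥ (by omega)
        rw [← hmu1 K₀, hMM_card] at h2
        have h5 : mu1 P p n K₀ + (MM.filter (fun M => ¬ K₀ ≤ M)).card ≡
            mu1 P p n K₀ + 0 [MOD p] := by
          rw [h2, add_zero]
          exact h4.trans h3.symm
        exact (Nat.modEq_zero_iff_dvd).1 (Nat.ModEq.add_left_cancel' _ h5)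
      · have h1 : MM.filter (fun M : Subgroup P => IsCyclic M) = ∅ := by
          apply Finset.filter_eq_empty_iff.2
          intro M hM hc
          exact hex ⟨M, hM, hc⟩
        rw [h1, Finset.card_empty]
        exact dvd_zero p
    obtain ⟨c, hc⟩ := hcyc
    rw [hc] at hMMsum
    have h1 : ∑ M ∈ MM, Nat.card {H' : Subgroup M // Nat.card H' = p ^ a} ≡
        MM.card * (1 + p) [MOD p ^ 2] := by
      have h2 : ∑ M ∈ MM, Nat.card {H' : Subgroup M // Nat.card H' = p ^ a} + p * (p * c) ≡
          ∑ M ∈ MM, Nat.card {H' : Subgroup M // Nat.card H' = p ^ a} [MOD p ^ 2] := by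
        unfold Nat.ModEq
        rw [← mul_assoc, ← pow_two, Nat.add_mul_mod_self_left]
      exact h2.symm.trans hMMsum
    have h3 : MM.card * (1 + p) ≡ 1 + p + p [MOD p ^ 2] := by
      rw [hMM_card]
      have h4 := Nat.ModEq.mul_right (1 + p) hbot
      have h5 : (1 + p) * (1 + p) ≡ 1 + p + p [MOD p ^ 2] := by
        have h6 : (1 + p) * (1 + p) = p ^ 2 * 1 + (1 + p + p) := by ring
        rw [h6]
        unfold Nat.ModEq
        rw [Nat.mul_add_mod_self_left]
      exact h4.trans h5
    have h6 : Nat.card {H : Subgroup P // Nat.card H = p ^ a} + p ≡ 1 + p + p [MOD p ^ 2] := by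
      have h7 : Nat.card {H : Subgroup P // Nat.card H = p ^ a} +
          p * ∑ K ∈ K2, Nat.card {H' : Subgroup K // Nat.card H' = p ^ a} ≡
          Nat.card {H : Subgroup P // Nat.card H = p ^ a} + p [MOD p ^ 2] :=
        Nat.ModEq.add_left _ hK2sum
      exact h7.symm.trans (hkey.symm.trans (h1.trans h3))
    exact Nat.ModEq.add_right_cancel' p h6

end kul

/-- **Kulakoff's theorem.** -/
theorem kulakoff (p : ℕ) [hp : Fact p.Prime] (hp2 : p ≠ 2) :
    ∀ (n : ℕ) (P : Type u) [Group P] [Finite P], Nat.card P = p ^ n → ¬ IsCyclic P →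
      ∀ a, 1 ≤ a → a < n →
        Nat.card {H : Subgroup P // Nat.card H = p ^ a} ≡ 1 + p [MOD p ^ 2] := by
  intro n
  induction n using Nat.strong_induction_on with
  | _ n ih =>
    intro P _ _ hP hnc a ha han
    apply kulakoff_step hp2 hP hnc _ a ha han
    intro M hM hMc b hb hbn
    exact ih (n - 1) (by omega) M hM hMc b hb hbn

end Cfsg.Agent.Helper29.Kul
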