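import Mathlib
import Cfsg.Agent.Lead.NilBound
import Cfsg.Agent.Lead.NilNum
import Cfsg.Agent.Helper29.NilAlt

set_option autoImplicit false

namespace Cfsg.Agent.Helper29

theorem na_noThree (c : ℕ → ℕ)
    (hc : ∀ m, 0 < m → m ≠ 3 → c m ≤ 2 ^ (m.factorial.factorization 2))
    (l : Multiset ℕ) (hl : ∀ m ∈ l, 0 < m ∧ m ≠ 3) :
    (l.map c).prod ≤ 2 ^ (l.sum.factorial.factorization 2) := by
  induction l using Multiset.induction_on with
  | empty =>
    rw [Multiset.map_zero, Multiset.prod_zero]
    exact Nat.one_le_two_pow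
  | cons a s ih =>
    rw [Multiset.map_cons, Multiset.prod_cons, Multiset.sum_cons]
    have h1 := hc a (hl a (Multiset.mem_cons_self a s)).1 (hl a (Multiset.mem_cons_self a s)).2
    have h2 := ih (fun m hm => hl m (Multiset.mem_cons_of_mem hm))
    calc c a * (s.map c).prod
        ≤ 2 ^ (a.factorial.factorization 2) * 2 ^ (s.sum.factorial.factorization 2) :=
          Nat.mul_le_mul h1 h2
      _ = 2 ^ (a.factorial.factorization 2 + s.sum.factorial.factorization 2) :=
          (pow_add _ _ _).symm
      _ ≤ _ := Nat.pow_le_pow_right (by norm_num) (na_V_add a s.sum)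

theorem na_V_three (t : ℕ) :
    (4 * t + 3).factorial.factorization 2 = (4 * t).factorial.factorization 2 + 1 := by
  have e1 : (4 * t + 3).factorial.factorization 2 = (4 * t + 2).factorial.factorization 2 := by
    have := na_V_odd (2 * t + 1)
    rwa [show 2 * (2 * t + 1) + 1 = 4 * t + 3 by ring,
      show 2 * (2 * t + 1) = 4 * t + 2 by ring] at this
  have e2 : (4 * t + 1).factorial.factorization 2 = (4 * t).factorial.factorization 2 := by
    have := na_V_odd (2 * t)
    rwa [show 2 * (2 * t) + 1 = 4 * t + 1 by ring, show 2 * (2 * t) = 4 * t by ring] at this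
  have e4 : (2 * (2 * t + 1)).factorization 2 = 1 := by
    rw [Nat.factorization_mul (show (2:ℕ) ≠ 0 by norm_num) (show 2 * t + 1 ≠ 0 by omega),
      Finsupp.add_apply, Nat.prime_two.factorization_self,
      Nat.factorization_eq_zero_of_not_dvd (show ¬ 2 ∣ 2 * t + 1 by omega)]
  have e3 : (4 * t + 2).factorial.factorization 2
      = (4 * t + 1).factorial.factorization 2 + 1 := by
    have e5 : (4 * t + 2).factorial = (2 * (2 * t + 1)) * (4 * t + 1).factorial := by
      rw [show 4 * t + 2 = (4 * t + 1) + 1 by ring, Nat.factorial_succ]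
      congr 1; ring
    rw [e5, Nat.factorization_mul (show 2 * (2 * t + 1) ≠ 0 by omega) (Nat.factorial_ne_zero _),
      Finsupp.add_apply, e4]
    omega
  omega

/-- [F1] of helper14's S2256 job. -/
theorem alt3_num (c : ℕ → ℕ)
    (hc : ∀ m, 0 < m → m ≠ 3 → c m ≤ 2 ^ (m.factorial.factorization 2))
    (hc3 : c 3 = 3)
    (hc2 : ∀ m, Odd m → m ≠ 1 → m ≠ 3 → m ≠ 5 → m ≠ 9 →
      2 * c m ≤ 2 ^ (m.factorial.factorization 2))
    (l : Multiset ℕ) (hodd : ∀ m ∈ l, Odd m) (h : l.sum % 4 = 3) (h7 : 7 ≤ l.sum) :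
    2 * (l.map c).prod ≤ 3 * 2 ^ ((l.sum - 3).factorial.factorization 2) := by
  by_cases h3 : 3 ∈ l
  · obtain ⟨l', rfl⟩ := Multiset.exists_cons_of_mem h3
    rw [Multiset.sum_cons] at h h7 ⊢
    rw [Multiset.map_cons, Multiset.prod_cons, hc3, show 3 + l'.sum - 3 = l'.sum by omega]
    have h1 := nil_prod_odd_le c hc hc3 hc2 l'
      (fun m hm => hodd m (Multiset.mem_cons_of_mem hm))
      (by omega) (by omega) (by omega) (by omega) (by omega)
    calc 2 * (3 * (l'.map c).prod) = 3 * (2 * (l'.map c).prod) := by ring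
      _ ≤ _ := Nat.mul_le_mul_left 3 h1
  · obtain ⟨t, ht⟩ : ∃ t, l.sum = 4 * t + 3 := ⟨l.sum / 4, by omega⟩
    have hV : l.sum.factorial.factorization 2 = (l.sum - 3).factorial.factorization 2 + 1 := by
      rw [ht, show 4 * t + 3 - 3 = 4 * t by omega]; exact na_V_three t
    suffices hmain : 2 * (l.map c).prod ≤ 2 ^ (l.sum.factorial.factorization 2) by
      rw [hV, pow_succ] at hmain; omega
    have hne3 : ∀ m ∈ l, m ≠ 3 := fun m hm hm3 => h3 (hm3 ▸ hm)
    by_cases hl0 : l = 0
    · subst hl0; simp at h7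
    obtain ⟨x, hxl⟩ := Multiset.exists_mem_of_ne_zero hl0
    obtain ⟨l₁, rfl⟩ := Multiset.exists_cons_of_mem hxl
    have hxodd := hodd x (Multiset.mem_cons_self x l₁)
    have hx3 := hne3 x (Multiset.mem_cons_self x l₁)
    by_cases hl1 : l₁ = 0
    · subst hl1
      simp only [Multiset.cons_zero, Multiset.sum_singleton, Multiset.map_singleton,
        Multiset.prod_singleton] at h h7 ⊢
      exact hc2 x hxodd (by omega) hx3 (by omega) (by omega)
    · obtain ⟨y, hy⟩ := Multiset.exists_mem_of_ne_zero hl1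
      obtain ⟨r, rfl⟩ := Multiset.exists_cons_of_mem hy
      have hyodd := hodd y (Multiset.mem_cons_of_mem (Multiset.mem_cons_self y r))
      obtain ⟨a, rfl⟩ := hxodd
      obtain ⟨b, rfl⟩ := hyodd
      have key := na_key c hc hc3 a b hx3
      have hne : ∀ m ∈ r, m ≠ 2 * a + 1 + (2 * b + 1) := by
        intro m hm
        obtain ⟨d, rfl⟩ := hodd m (Multiset.mem_cons_of_mem (Multiset.mem_cons_of_mem hm))
        omega
      have hc' : ∀ m, 0 < m → m ≠ 3 →
          Function.update c (2 * a + 1 + (2 * b + 1)) (2 * c (2 * a + 1) * c (2 * b + 1)) m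
            ≤ 2 ^ (m.factorial.factorization 2) := by
        intro m hm hm3
        by_cases hmx : m = 2 * a + 1 + (2 * b + 1)
        · rw [hmx, Function.update_self]; exact key
        · rw [Function.update_of_ne hmx]; exact hc m hm hm3
      have hs : ((2 * a + 1 + (2 * b + 1)) ::ₘ r).sum
          = ((2 * a + 1) ::ₘ (2 * b + 1) ::ₘ r).sum := by
        rw [Multiset.sum_cons, Multiset.sum_cons, Multiset.sum_cons, add_assoc]
      have hr : Multiset.map (Function.update c (2 * a + 1 + (2 * b + 1))
          (2 * c (2 * a + 1) * c (2 * b + 1))) r = Multiset.map c r :=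
        Multiset.map_congr rfl (fun m hm => Function.update_of_ne (hne m hm) _ _)
      have h1 := na_noThree _ hc' ((2 * a + 1 + (2 * b + 1)) ::ₘ r)
        (by
          intro m hm
          rcases Multiset.mem_cons.mp hm with rfl | hm
          · constructor <;> omega
          · exact ⟨(hodd m (Multiset.mem_cons_of_mem (Multiset.mem_cons_of_mem hm))).pos,
              hne3 m (Multiset.mem_cons_of_mem (Multiset.mem_cons_of_mem hm))⟩)
      rw [hs, Multiset.map_cons, Multiset.prod_cons, Function.update_self, hr] at h1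
      rw [Multiset.map_cons, Multiset.map_cons, Multiset.prod_cons, Multiset.prod_cons]
      calc 2 * (c (2 * a + 1) * (c (2 * b + 1) * (r.map c).prod))
          = 2 * c (2 * a + 1) * c (2 * b + 1) * (r.map c).prod := by ring
        _ ≤ _ := h1

end Cfsg.Agent.Helper29
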