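import Mathlib
import Cfsg.Agent.Lead.NilBound

set_option autoImplicit false

namespace Cfsg.Agent.Helper29

/-- Superadditivity of `v₂(n!)`. -/
theorem np_v_add (a b : ℕ) :
    a.factorial.factorization 2 + b.factorial.factorization 2 ≤
      (a + b).factorial.factorization 2 := by
  have h := Nat.factorial_mul_factorial_dvd_factorial_add a b
  have h1 : (a.factorial * b.factorial).factorization ≤ (a + b).factorial.factorization :=
    (Nat.factorization_le_iff_dvd (Nat.mul_ne_zero (Nat.factorial_ne_zero a)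
      (Nat.factorial_ne_zero b)) (Nat.factorial_ne_zero (a + b))).2 h
  have h2 := h1 2
  rw [Nat.factorization_mul (Nat.factorial_ne_zero a) (Nat.factorial_ne_zero b)] at h2
  simpa using h2

theorem np_v_succ (n : ℕ) :
    (n + 1).factorial.factorization 2 = n.factorial.factorization 2 + (n + 1).factorization 2 := by
  rw [Nat.factorial_succ, Nat.factorization_mul (Nat.succ_ne_zero n) (Nat.factorial_ne_zero n)]
  simp [add_comm]

theorem np_w_ge_two (k : ℕ) (hk : k ≠ 0) (h : k % 4 = 0) : 2 ≤ k.factorization 2 := by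
  apply (Nat.Prime.pow_dvd_iff_le_factorization Nat.prime_two hk).1
  exact Nat.dvd_of_mod_eq_zero (by norm_num; exact h)

theorem np_w_ge_one (k : ℕ) (hk : k ≠ 0) (h : k % 2 = 0) : 1 ≤ k.factorization 2 := by
  apply (Nat.Prime.pow_dvd_iff_le_factorization Nat.prime_two hk).1
  exact Nat.dvd_of_mod_eq_zero (by norm_num; exact h)

theorem np_w_le_one (k : ℕ) (h : k % 4 ≠ 0) : k.factorization 2 ≤ 1 := by
  by_contra hcon
  push_neg at hcon
  have hk : k ≠ 0 := by
    rintro rfl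
    simp at h
  have h2 : 2 ^ 2 ∣ k := (Nat.Prime.pow_dvd_iff_le_factorization Nat.prime_two hk).2 hcon
  have h3 : (4 : ℕ) ∣ k := by norm_num at h2; exact h2
  exact h (Nat.mod_eq_zero_of_dvd h3)

theorem np_v_add_three (s : ℕ) :
    (3 + s).factorial.factorization 2 = s.factorial.factorization 2 + (s + 1).factorization 2 +
      (s + 2).factorization 2 + (s + 3).factorization 2 := by
  rw [show 3 + s = (s + 2) + 1 by omega, np_v_succ, show s + 2 = (s + 1) + 1 by omega, np_v_succ,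
    np_v_succ]

/-- (I2) -/
theorem np_v_strict (s m : ℕ) (hs : s % 4 = 3) (hm : m % 4 ≠ 0) :
    s.factorial.factorization 2 + m.factorial.factorization 2 + 1 ≤
      (m + s).factorial.factorization 2 := by
  obtain ⟨m', rfl⟩ : ∃ m', m = m' + 1 := ⟨m - 1, by omega⟩
  have h1 := np_v_succ s
  have h2 := np_w_ge_two (s + 1) (by omega) (by omega)
  have h3 := np_v_succ m'
  have h4 := np_w_le_one (m' + 1) hm
  have h5 := np_v_add (s + 1) m'
  have h6 : m' + 1 + s = s + 1 + m' := by omega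
  rw [h6]
  omega

/-- (I3) -/
theorem np_v_three_two (s : ℕ) (hs : s % 4 ≠ 0) :
    s.factorial.factorization 2 + 2 ≤ (3 + s).factorial.factorization 2 := by
  rw [np_v_add_three]
  have h : s % 4 = 1 ∨ s % 4 = 2 ∨ s % 4 = 3 := by omega
  rcases h with h | h | h
  · have h1 := np_w_ge_one (s + 1) (by omega) (by omega)
    have h2 := np_w_ge_two (s + 3) (by omega) (by omega)
    omega
  · have h2 := np_w_ge_two (s + 2) (by omega) (by omega)
    omega
  · have h2 := np_w_ge_two (s + 1) (by omega) (by omega)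
    omega

/-- (I4) -/
theorem np_v_three_one (s : ℕ) :
    s.factorial.factorization 2 + 1 ≤ (3 + s).factorial.factorization 2 := by
  rw [np_v_add_three]
  have h : s % 2 = 0 ∨ s % 2 = 1 := by omega
  rcases h with h | h
  · have h2 := np_w_ge_one (s + 2) (by omega) (by omega)
    omega
  · have h2 := np_w_ge_one (s + 1) (by omega) (by omega)
    omega

/-- (I5) -/
theorem np_v_three_three (s : ℕ) (hs : s % 4 = 3) :
    s.factorial.factorization 2 + 3 ≤ (3 + s).factorial.factorization 2 := by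
  rw [np_v_add_three]
  have h1 := np_w_ge_two (s + 1) (by omega) (by omega)
  have h2 := np_w_ge_one (s + 3) (by omega) (by omega)
  omega

theorem np_pow1 (x c a b t : ℕ) (hx : x ≤ 2 ^ a) (hc : c ≤ 2 ^ b) (h : a + b ≤ t) :
    c * x ≤ 2 ^ t := by
  calc c * x ≤ 2 ^ b * 2 ^ a := Nat.mul_le_mul hc hx
    _ = 2 ^ (a + b) := by rw [← pow_add, add_comm]
    _ ≤ 2 ^ t := Nat.pow_le_pow_right (by norm_num) h

theorem np_pow2 (x c a b t : ℕ) (hx : 2 * x ≤ 3 * 2 ^ a) (hc : c ≤ 2 ^ b) (h : a + b + 1 ≤ t) :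
    c * x ≤ 2 ^ t := by
  have h1 : c * (2 * x) ≤ 2 ^ b * (3 * 2 ^ a) := Nat.mul_le_mul hc hx
  have h2 : 2 ^ (a + b + 1) ≤ 2 ^ t := Nat.pow_le_pow_right (by norm_num) h
  have h3 : 2 ^ (a + b + 1) = 2 * (2 ^ b * 2 ^ a) := by
    rw [pow_succ, pow_add]
    ring
  have h4 : 0 < 2 ^ b * 2 ^ a := by positivity
  nlinarith

theorem np_pow3 (x c a b t : ℕ) (hx : 2 * x ≤ 3 * 2 ^ a) (hc : c ≤ 2 ^ b) (h : a + b ≤ t) :
    2 * (c * x) ≤ 3 * 2 ^ t := by
  have h1 : c * (2 * x) ≤ 2 ^ b * (3 * 2 ^ a) := Nat.mul_le_mul hc hx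
  have h2 : 2 ^ (a + b) ≤ 2 ^ t := Nat.pow_le_pow_right (by norm_num) h
  have h3 : 2 ^ (a + b) = 2 ^ b * 2 ^ a := by
    rw [pow_add]
    ring
  nlinarith

theorem np_three_ss (x a t : ℕ) (hx : x ≤ 2 ^ a) (h : a + 2 ≤ t) : 3 * x ≤ 2 ^ t := by
  have h2 : 2 ^ (a + 2) ≤ 2 ^ t := Nat.pow_le_pow_right (by norm_num) h
  have h3 : 2 ^ (a + 2) = 4 * 2 ^ a := by
    rw [pow_add]
    ring
  nlinarith

theorem np_three_sw (x a t : ℕ) (hx : x ≤ 2 ^ a) (h : a + 1 ≤ t) : 2 * (3 * x) ≤ 3 * 2 ^ t := by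
  have h2 : 2 ^ (a + 1) ≤ 2 ^ t := Nat.pow_le_pow_right (by norm_num) h
  have h3 : 2 ^ (a + 1) = 2 * 2 ^ a := by
    rw [pow_add]
    ring
  nlinarith

theorem np_three_ws (x a t : ℕ) (hx : 2 * x ≤ 3 * 2 ^ a) (h : a + 3 ≤ t) : 3 * x ≤ 2 ^ t := by
  have h2 : 2 ^ (a + 3) ≤ 2 ^ t := Nat.pow_le_pow_right (by norm_num) h
  have h3 : 2 ^ (a + 3) = 8 * 2 ^ a := by
    rw [pow_add]
    ring
  have h4 : 0 < 2 ^ a := by positivity
  nlinarith

theorem np_weak (x t : ℕ) (hx : x ≤ 2 ^ t) : 2 * x ≤ 3 * 2 ^ t := by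
  nlinarith

theorem nil_prod_aux (c : ℕ → ℕ)
    (hc : ∀ m, 0 < m → m ≠ 3 → c m ≤ 2 ^ (m.factorial.factorization 2)) (hc3 : c 3 = 3) :
    ∀ l : Multiset ℕ, (∀ m ∈ l, 0 < m) →
      (2 * (l.map c).prod ≤ 3 * 2 ^ (l.sum.factorial.factorization 2)) ∧
      (l.sum % 4 ≠ 3 → (l.map c).prod ≤ 2 ^ (l.sum.factorial.factorization 2)) := by
  intro l
  induction l using Multiset.induction_on with
  | empty =>
    intro _
    simp
  | cons m l ih =>
    intro hpos
    have hm : 0 < m := hpos m (Multiset.mem_cons_self m l)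
    obtain ⟨ihw, ihs⟩ := ih (fun x hx => hpos x (Multiset.mem_cons_of_mem hx))
    rw [Multiset.map_cons, Multiset.prod_cons, Multiset.sum_cons]
    generalize (l.map c).prod = x at ihw ihs ⊢
    generalize l.sum = s at ihw ihs ⊢
    by_cases h3 : m = 3
    · subst h3
      rw [hc3]
      by_cases hs : s % 4 = 3
      · have hstrong : 3 * x ≤ 2 ^ ((3 + s).factorial.factorization 2) :=
          np_three_ws x _ _ ihw (np_v_three_three s hs)
        exact ⟨np_weak _ _ hstrong, fun _ => hstrong⟩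
      · have hx := ihs hs
        refine ⟨np_three_sw x _ _ hx (np_v_three_one s), fun h4 => ?_⟩
        exact np_three_ss x _ _ hx (np_v_three_two s (by omega))
    · have hcm := hc m hm h3
      by_cases hs : s % 4 = 3
      · refine ⟨np_pow3 x (c m) _ _ _ ihw hcm (by
          have := np_v_add s m
          rw [show m + s = s + m by omega]
          exact this), fun h4 => ?_⟩
        exact np_pow2 x (c m) _ _ _ ihw hcm (np_v_strict s m hs (by omega))
      · have hx := ihs hs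
        have hstrong : c m * x ≤ 2 ^ ((m + s).factorial.factorization 2) :=
          np_pow1 x (c m) _ _ _ hx hcm (by
            have := np_v_add s m
            rw [show m + s = s + m by omega]
            exact this)
        exact ⟨np_weak _ _ hstrong, fun _ => hstrong⟩

/-- [N2] -/
theorem nil_prod_le_of (c : ℕ → ℕ)
    (hc : ∀ m, 0 < m → m ≠ 3 → c m ≤ 2 ^ (m.factorial.factorization 2)) (hc3 : c 3 = 3)
    (l : Multiset ℕ) (hpos : ∀ m ∈ l, 0 < m) (h : l.sum % 4 ≠ 3) :
    (l.map c).prod ≤ 2 ^ (l.sum.factorial.factorization 2) :=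
  (nil_prod_aux c hc hc3 l hpos).2 h

end Cfsg.Agent.Helper29
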