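import Mathlib

set_option autoImplicit false

namespace Cfsg.Agent.Helper29

open Equiv MulAction
open scoped Pointwise

variable {Ω ι : Type*}

/-- The stabilizer of the partition of `Ω` into the fibres of `f`. -/
def partStab (f : Ω → ι) : Subgroup (Perm Ω) where
  carrier := {g | ∀ x y : Ω, f x = f y ↔ f (g x) = f (g y)}
  mul_mem' := by
    intro g h hg hh x y
    rw [hh x y, hg (h x) (h y)]
    rfl
  one_mem' := by
    intro x y
    rfl
  inv_mem' := by
    intro g hg x y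
    have h := hg (g⁻¹ x) (g⁻¹ y)
    have h1 : ∀ z, g (g⁻¹ z) = z := fun z => by
      rw [← Perm.mul_apply, mul_inv_cancel, Perm.one_apply]
    rw [h1, h1] at h
    exact h.symm

theorem mem_partStab (f : Ω → ι) (g : Perm Ω) :
    g ∈ partStab f ↔ ∀ x y : Ω, f x = f y ↔ f (g x) = f (g y) := Iff.rfl

theorem closure_eq_partStab (f : Ω → ι) :
    Subgroup.closure {g : Perm Ω | ∀ x y : Ω, f x = f y ↔ f (g x) = f (g y)} = partStab f :=
  (partStab f).closure_eq

theorem swap_mem_partStab [DecidableEq Ω] (f : Ω → ι) {x y : Ω} (h : f x = f y) :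
    swap x y ∈ partStab f := by
  have key : ∀ u, f (swap x y u) = f u := by
    intro u
    by_cases hx : u = x
    · subst hx; rw [swap_apply_left]; exact h.symm
    · by_cases hy : u = y
      · subst hy; rw [swap_apply_right]; exact h
      · rw [swap_apply_of_ne_of_ne hx hy]
  intro u v
  rw [key u, key v]

theorem exists_fibreSwap [DecidableEq ι] (f : Ω → ι) {i j : ι} (hij : i ≠ j)
    (e : {x // f x = i} ≃ {x // f x = j}) :
    ∃ σ : Perm Ω, σ ∈ partStab f ∧ (∀ x (h : f x = i), σ x = e ⟨x, h⟩) ∧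
      (∀ x (h : f x = j), σ x = e.symm ⟨x, h⟩) ∧ (∀ x, f x ≠ i → f x ≠ j → σ x = x) := by
  let s : Ω → Ω := fun x =>
    if h : f x = i then (e ⟨x, h⟩ : Ω) else if h' : f x = j then (e.symm ⟨x, h'⟩ : Ω) else x
  have hs1 : ∀ x (h : f x = i), s x = e ⟨x, h⟩ := fun x h => by simp only [s, dif_pos h]
  have hs2 : ∀ x (h : f x = j), s x = e.symm ⟨x, h⟩ := fun x h => by
    have hne : ¬ f x = i := fun h' => hij (h'.symm.trans h)
    simp only [s, dif_neg hne, dif_pos h]
  have hs3 : ∀ x, f x ≠ i → f x ≠ j → s x = x := fun x h1 h2 => by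
    simp only [s, dif_neg h1, dif_neg h2]
  have hinv : Function.Involutive s := by
    intro x
    by_cases h1 : f x = i
    · rw [hs1 x h1, hs2 _ (e ⟨x, h1⟩).2]
      simp
    · by_cases h2 : f x = j
      · rw [hs2 x h2, hs1 _ (e.symm ⟨x, h2⟩).2]
        simp
      · rw [hs3 x h1 h2, hs3 x h1 h2]
  refine ⟨hinv.toPerm s, ?_, hs1, hs2, hs3⟩
  have key : ∀ x, f (s x) = swap i j (f x) := by
    intro x
    by_cases h1 : f x = i
    · rw [hs1 x h1, h1, swap_apply_left]; exact (e ⟨x, h1⟩).2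
    · by_cases h2 : f x = j
      · rw [hs2 x h2, h2, swap_apply_right]; exact (e.symm ⟨x, h2⟩).2
      · rw [hs3 x h1 h2, swap_apply_of_ne_of_ne h1 h2]
  intro x y
  change f x = f y ↔ f (s x) = f (s y)
  rw [key x, key y, (swap i j).injective.eq_iff]

section finite

variable [Finite Ω]

theorem exists_pair_fibre (f : Ω → ι) (a : ℕ) (ha : 2 ≤ a)
    (hf : ∀ i, Nat.card {x // f x = i} = a) (i : ι) :
    ∃ x y : Ω, x ≠ y ∧ f x = i ∧ f y = i := by
  have h1 : 1 < Nat.card {x // f x = i} := by rw [hf i]; omega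
  have h2 : Nontrivial {x // f x = i} := Finite.one_lt_card_iff_nontrivial.mp h1
  obtain ⟨x, y, hxy⟩ := exists_pair_ne {x // f x = i}
  exact ⟨x, y, fun h => hxy (Subtype.ext h), x.2, y.2⟩

theorem exists_other_in_fibre (f : Ω → ι) (a : ℕ) (ha : 2 ≤ a)
    (hf : ∀ i, Nat.card {x // f x = i} = a) (u : Ω) :
    ∃ z : Ω, z ≠ u ∧ f z = f u := by
  obtain ⟨x, y, hxy, hx, hy⟩ := exists_pair_fibre f a ha hf (f u)
  by_cases h : x = u
  · exact ⟨y, fun h' => hxy (h.trans h'.symm), hy⟩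
  · exact ⟨x, h, hx⟩

theorem exists_fibre_equiv (f : Ω → ι) (a : ℕ)
    (hf : ∀ i, Nat.card {x // f x = i} = a) (i j : ι) :
    Nonempty ({x // f x = i} ≃ {x // f x = j}) :=
  Finite.card_eq.mp ((hf i).trans (hf j).symm)

theorem partStab_ne_top [DecidableEq Ω] [Nontrivial ι] (f : Ω → ι) (a : ℕ) (ha : 2 ≤ a)
    (hf : ∀ i, Nat.card {x // f x = i} = a) : partStab f ≠ ⊤ := by
  intro htop
  obtain ⟨i, j, hij⟩ := exists_pair_ne ι
  obtain ⟨x, y, hxy, hx, hy⟩ := exists_pair_fibre f a ha hf i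
  obtain ⟨z, _, _, hz, _⟩ := exists_pair_fibre f a ha hf j
  have hmem : swap y z ∈ partStab f := by rw [htop]; trivial
  have h1 := (hmem x y).mp (hx.trans hy.symm)
  have hxz : x ≠ z := fun h => hij (by rw [← hx, h, hz])
  rw [swap_apply_of_ne_of_ne hxy hxz, swap_apply_left, hx, hz] at h1
  exact hij h1

omit [Finite Ω] in
theorem block_closed {G : Subgroup (Perm Ω)} {B : Set Ω} (hB : IsBlock G B) {g : Perm Ω}
    (hg : g ∈ G) {a : Ω} (ha : a ∈ B) (hga : g a ∈ B) : ∀ u ∈ B, g u ∈ B := by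
  have h := hB.smul_eq_of_mem (g := (⟨g, hg⟩ : G)) ha hga
  intro u hu
  have h2 : (⟨g, hg⟩ : G) • u ∈ (⟨g, hg⟩ : G) • B := Set.smul_mem_smul_set hu
  rw [h] at h2
  exact h2

theorem block_trichotomy [DecidableEq Ω] [DecidableEq ι] (f : Ω → ι) (a : ℕ) (ha : 2 ≤ a)
    (hf : ∀ i, Nat.card {x // f x = i} = a) {G : Subgroup (Perm Ω)} (hWG : partStab f ≤ G)
    {B : Set Ω} (hB : IsBlock G B) :
    B.Subsingleton ∨ B = Set.univ ∨ ∃ i, B = {x | f x = i} := by
  by_cases hsub : B.Subsingleton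
  · exact Or.inl hsub
  right
  rw [Set.not_subsingleton_iff] at hsub
  obtain ⟨x, hx, y, hy, hxy⟩ := hsub
  -- B is a union of fibres
  have step1 : ∀ u ∈ B, ∀ v, f v = f u → v ∈ B := by
    intro u hu v hv
    have hu' : ∃ u' ∈ B, u' ≠ u ∧ f u' = f u := by
      obtain ⟨t, ht, htu⟩ : ∃ t ∈ B, t ≠ u := by
        by_cases h : x = u
        · exact ⟨y, hy, fun h' => hxy (h.trans h'.symm)⟩
        · exact ⟨x, hx, h⟩
      by_cases hft : f t = f u
      · exact ⟨t, ht, htu, hft⟩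
      · obtain ⟨z, hzu, hfz⟩ := exists_other_in_fibre f a ha hf u
        have hmem : swap u z ∈ G := hWG (swap_mem_partStab f hfz.symm)
        have htz : t ≠ z := fun h => hft (by rw [h, hfz])
        have hfix : swap u z t = t := swap_apply_of_ne_of_ne htu htz
        have := block_closed hB hmem ht (by rw [hfix]; exact ht) u hu
        rw [swap_apply_left] at this
        exact ⟨z, this, hzu, hfz⟩
    obtain ⟨u', hu'B, hu'u, hfu'⟩ := hu'
    by_cases h1 : v = u
    · rw [h1]; exact hu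
    by_cases h2 : v = u'
    · rw [h2]; exact hu'B
    have hmem : swap u' v ∈ G := hWG (swap_mem_partStab f (hfu'.trans hv.symm))
    have hfix : swap u' v u = u := swap_apply_of_ne_of_ne (Ne.symm hu'u) (Ne.symm h1)
    have := block_closed hB hmem hu (by rw [hfix]; exact hu) u' hu'B
    rw [swap_apply_left] at this
    exact this
  by_cases hone : ∀ u ∈ B, f u = f x
  · right
    refine ⟨f x, ?_⟩
    ext u
    exact ⟨fun hu => hone u hu, fun hu => step1 x hx u hu⟩
  · left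
    push Not at hone
    obtain ⟨u, hu, hfu⟩ := hone
    rw [Set.eq_univ_iff_forall]
    intro v
    by_cases h1 : f v = f x
    · exact step1 x hx v h1
    by_cases h2 : f v = f u
    · exact step1 u hu v h2
    obtain ⟨e⟩ := exists_fibre_equiv f a hf (f u) (f v)
    obtain ⟨σ, hσ, hσ1, -, hσ3⟩ := exists_fibreSwap f (Ne.symm h2) e
    have hfix : σ x = x := hσ3 x (Ne.symm hfu) (Ne.symm h1)
    have hw : ((e.symm ⟨v, rfl⟩ : {x // f x = f u}) : Ω) ∈ B :=
      step1 u hu _ (e.symm ⟨v, rfl⟩).2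
    have := block_closed hB (hWG hσ) hx (by rw [hfix]; exact hx) _ hw
    rw [hσ1 _ (e.symm ⟨v, rfl⟩).2] at this
    simpa using this

theorem partStab_isPretransitive [DecidableEq Ω] [DecidableEq ι] (f : Ω → ι) (a : ℕ)
    (hf : ∀ i, Nat.card {x // f x = i} = a) {G : Subgroup (Perm Ω)} (hWG : partStab f ≤ G) :
    IsPretransitive G Ω := by
  refine ⟨fun x y => ?_⟩
  by_cases h : f x = f y
  · exact ⟨⟨swap x y, hWG (swap_mem_partStab f h)⟩, swap_apply_left x y⟩
  · obtain ⟨e⟩ := exists_fibre_equiv f a hf (f x) (f y)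
    obtain ⟨σ, hσ, hσ1, -, -⟩ := exists_fibreSwap f h e
    have h1 : f (σ x) = f y := by rw [hσ1 x rfl]; exact (e ⟨x, rfl⟩).2
    refine ⟨⟨swap (σ x) y * σ, G.mul_mem (hWG (swap_mem_partStab f h1)) (hWG hσ)⟩, ?_⟩
    change swap (σ x) y (σ x) = y
    exact swap_apply_left _ _

theorem fibre_ne_univ [Nontrivial ι] (f : Ω → ι) (a : ℕ) (ha : 2 ≤ a)
    (hf : ∀ i, Nat.card {x // f x = i} = a) (k : ι) : {x | f x = k} ≠ Set.univ := by
  intro h
  obtain ⟨j, hj⟩ := exists_ne k
  obtain ⟨z, _, _, hz, _⟩ := exists_pair_fibre f a ha hf j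
  have : z ∈ {x | f x = k} := by rw [h]; trivial
  exact hj (hz.symm.trans this)

theorem isCoatom_partStab [DecidableEq Ω] [DecidableEq ι] [Nontrivial ι] (f : Ω → ι) (a : ℕ)
    (ha : 2 ≤ a) (hf : ∀ i, Nat.card {x // f x = i} = a) : IsCoatom (partStab f) := by
  refine ⟨partStab_ne_top f a ha hf, fun G hG => ?_⟩
  have hWG : partStab f ≤ G := hG.le
  obtain ⟨g₀, hg₀G, hg₀⟩ := SetLike.exists_of_lt hG
  -- an element of G and a pair in a fibre sent to different fibres
  have hex : ∃ h ∈ G, ∃ x y : Ω, f x = f y ∧ f (h x) ≠ f (h y) := by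
    rw [mem_partStab] at hg₀
    push Not at hg₀
    obtain ⟨x, y, hxy⟩ := hg₀
    rcases hxy with ⟨h1, h2⟩ | ⟨h1, h2⟩
    · exact ⟨g₀, hg₀G, x, y, h1, h2⟩
    · refine ⟨g₀⁻¹, G.inv_mem hg₀G, g₀ x, g₀ y, h2, ?_⟩
      simpa using h1
  obtain ⟨h, hhG, x, y, hfxy, hne⟩ := hex
  have htrans : IsPretransitive G Ω := partStab_isPretransitive f a hf hWG
  -- no fibre is a block of G
  have claim : ∀ k, ¬ IsBlock G {z | f z = k} := by
    intro k hBk
    obtain ⟨p, p', hpp', hp, hp'⟩ := exists_pair_fibre f a ha hf k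
    obtain ⟨g, hg⟩ := exists_smul_eq G p x
    have hB₁ : IsBlock G (g • {z | f z = k}) := hBk.translate g
    have hx₁ : x ∈ g • {z : Ω | f z = k} := by
      rw [← hg]; exact Set.smul_mem_smul_set hp
    have huniv₁ : g • {z : Ω | f z = k} ≠ Set.univ := by
      intro h'
      apply fibre_ne_univ f a ha hf k
      have := congrArg (fun s : Set Ω => g⁻¹ • s) h'
      simpa using this
    rcases block_trichotomy f a ha hf hWG hB₁ with h1 | h1 | ⟨k', h1⟩
    · have hp₁ : g • p ∈ g • {z : Ω | f z = k} := Set.smul_mem_smul_set hp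
      have hp₂ : g • p' ∈ g • {z : Ω | f z = k} := Set.smul_mem_smul_set hp'
      exact hpp' (MulAction.injective g (h1 hp₁ hp₂))
    · exact huniv₁ h1
    · have hk' : f x = k' := by
        have : x ∈ {z | f z = k'} := by rw [← h1]; exact hx₁
        exact this
      have hy₁ : y ∈ g • {z : Ω | f z = k} := by
        rw [h1]; exact hfxy.symm.trans hk'
      have hB₂ : IsBlock G ((⟨h, hhG⟩ : G) • (g • {z : Ω | f z = k})) := hB₁.translate _
      have hx₂ : h x ∈ (⟨h, hhG⟩ : G) • (g • {z : Ω | f z = k}) :=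
        Set.smul_mem_smul_set (a := (⟨h, hhG⟩ : G)) hx₁
      have hy₂ : h y ∈ (⟨h, hhG⟩ : G) • (g • {z : Ω | f z = k}) :=
        Set.smul_mem_smul_set (a := (⟨h, hhG⟩ : G)) hy₁
      rcases block_trichotomy f a ha hf hWG hB₂ with h2 | h2 | ⟨k'', h2⟩
      · exact hne (congrArg f (h2 hx₂ hy₂))
      · apply huniv₁
        have := congrArg (fun s : Set Ω => (⟨h, hhG⟩ : G)⁻¹ • s) h2
        simpa using this
      · rw [h2] at hx₂ hy₂
        exact hne (hx₂.trans hy₂.symm)
  have hprim : IsPreprimitive G Ω := by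
    refine { toIsPretransitive := htrans, isTrivialBlock_of_isBlock := ?_ }
    intro B hB
    rcases block_trichotomy f a ha hf hWG hB with h1 | h1 | ⟨k, h1⟩
    · exact Or.inl h1
    · exact Or.inr h1
    · exact absurd (h1 ▸ hB) (claim k)
  obtain ⟨i⟩ := (inferInstance : Nonempty ι)
  obtain ⟨p, p', hpp', hp, hp'⟩ := exists_pair_fibre f a ha hf i
  exact Equiv.Perm.subgroup_eq_top_of_isPreprimitive_of_isSwap_mem hprim (swap p p')
    ⟨p, p', hpp', rfl⟩ (hWG (swap_mem_partStab f (hp.trans hp'.symm)))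

end finite

end Cfsg.Agent.Helper29
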